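/-
A tensor product of two symplectic spaces inside an orthogonal space: contractions and short root elements.
-/
import Cfsg.Agent.Lib.Geo.OrthMaximalBasic
import Cfsg.Agent.Lib.Classical.Quad.Eichler
import Cfsg.Agent.Lib.Classical.Symplectic.Geometry

set_option autoImplicit false
set_option linter.unusedSectionVars false

namespace CfsgLib.Geo.SympTensor

open CfsgLib.Classical CfsgLib.Classical.Quad CfsgLib.Geo.OrthMax Module
open QuadraticMap (polar polarBilin)
open LinearMap (BilinForm)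

variable {F : Type*} [Field F] {U W V : Type*} [AddCommGroup U] [Module F U] [FiniteDimensional F U]
  [AddCommGroup W] [Module F W] [FiniteDimensional F W] [AddCommGroup V] [Module F V] [FiniteDimensional F V]

/-- The pure tensors of two symplectic spaces inside an orthogonal space. -/
structure Data (Q : QuadraticForm F V) (f : BilinForm F U) (g : BilinForm F W) (T : U →ₗ[F] W →ₗ[F] V) :
    Prop where
  hQ : (polarBilin Q).Nondegenerate
  hf : f.Nondegenerate
  hfA : f.IsAlt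
  hg : g.Nondegenerate
  hgA : g.IsAlt
  polarT : ∀ a b y z, polar Q (T a y) (T b z) = f a b * g y z
  pure : ∀ a y, Q (T a y) = 0
  span : Submodule.span F (Set.range fun p : U × W => T p.1 p.2) = ⊤
  two : 2 ≤ finrank F U
  lt : finrank F U + 2 ≤ finrank F W
  six : 6 ≤ finrank F W
  five : 5 ≤ finrank F V

variable {Q : QuadraticForm F V} {f : BilinForm F U} {g : BilinForm F W} {T : U →ₗ[F] W →ₗ[F] V}

namespace Data

variable (D : Data Q f g T)
include D

/-- The adjoint of an endomorphism of the first factor. -/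
noncomputable def adj (θ : U →ₗ[F] U) : U →ₗ[F] U := f.leftAdjointOfNondegenerate D.hf θ

theorem adj_left (θ : U →ₗ[F] U) (x y : U) : f (D.adj θ x) y = f x (θ y) :=
  LinearMap.BilinForm.isAdjointPairLeftAdjointOfNondegenerate f D.hf θ x y

theorem adj_right (θ : U →ₗ[F] U) (x y : U) : f (θ x) y = f x (D.adj θ y) := by
  rw [Symp.swap D.hfA y (θ x), ← D.adj_left, ← Symp.swap D.hfA]

theorem fext {u v : U} (h : ∀ a, f a u = f a v) : u = v :=
  sub_eq_zero.1 (D.hf.2 _ fun a => by rw [map_sub, h a, sub_self])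

theorem gext {u v : W} (h : ∀ a, g a u = g a v) : u = v :=
  sub_eq_zero.1 (D.hg.2 _ fun a => by rw [map_sub, h a, sub_self])

theorem adj_eq {θ θ' : U →ₗ[F] U} (h : ∀ x y, f (θ' x) y = f x (θ y)) : D.adj θ = θ' :=
  LinearMap.ext fun x => D.fext fun y => by
    rw [Symp.swap D.hfA (D.adj θ x) y, Symp.swap D.hfA (θ' x) y, D.adj_left, h]

theorem adj_adj (θ : U →ₗ[F] U) : D.adj (D.adj θ) = θ := D.adj_eq fun x y => D.adj_right θ x y

theorem adj_add (θ τ : U →ₗ[F] U) : D.adj (θ + τ) = D.adj θ + D.adj τ := D.adj_eq fun x y => by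
  simp [D.adj_left]

theorem adj_smul (c : F) (θ : U →ₗ[F] U) : D.adj (c • θ) = c • D.adj θ := D.adj_eq fun x y => by
  simp [D.adj_left]

theorem adj_zero : D.adj 0 = 0 := D.adj_eq fun x y => by simp

theorem adj_id : D.adj LinearMap.id = LinearMap.id := D.adj_eq fun x y => rfl

theorem adj_comp (θ τ : U →ₗ[F] U) : D.adj (θ ∘ₗ τ) = D.adj τ ∘ₗ D.adj θ := D.adj_eq fun x y => by
  simp [D.adj_left]

theorem adj_rank_one (a b : U) : D.adj ((f b).smulRight a) = -((f a).smulRight b) := D.adj_eq fun x y => by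
  simp [Symp.swap D.hfA a x]
  ring

/-- The functional of a vector against a line of pure tensors. -/
def psi (_D : Data Q f g T) : W →ₗ[F] V →ₗ[F] Module.Dual F U :=
  LinearMap.mk₂ F (fun z v => (polarBilin Q).flip v ∘ₗ T.flip z)
    (fun z z' v => LinearMap.ext fun a => by simp) (fun c z v => LinearMap.ext fun a => by simp)
    (fun z v v' => LinearMap.ext fun a => by simp) (fun c z v => LinearMap.ext fun a => by simp)

/-- The contraction with a vector of the second factor. -/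
noncomputable def C : W →ₗ[F] V →ₗ[F] U := D.psi.compr₂ (-(f.toDual D.hf).symm.toLinearMap)

theorem f_C (a : U) (z : W) (v : V) : f a (D.C z v) = polar Q (T a z) v := by
  have h : f ((f.toDual D.hf).symm (D.psi z v)) a = D.psi z v a :=
    LinearMap.BilinForm.apply_toDual_symm_apply (B := f) (D.psi z v) a
  rw [Symp.swap D.hfA _ a]
  show -(f (-((f.toDual D.hf).symm (D.psi z v)))) a = _
  rw [map_neg, LinearMap.neg_apply, neg_neg, h]
  rfl

theorem C_T (z : W) (b : U) (r : W) : D.C z (T b r) = g z r • b := D.fext fun a => by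
  rw [D.f_C, D.polarT, map_smul, smul_eq_mul, mul_comm]

theorem hom_ext {M : Type*} [AddCommGroup M] [Module F M] {L L' : V →ₗ[F] M}
    (h : ∀ a y, L (T a y) = L' (T a y)) : L = L' :=
  LinearMap.ext_on D.span fun _ ⟨p, hp⟩ => hp ▸ h p.1 p.2

theorem V_ext {u v : V} (h : ∀ z, D.C z u = D.C z v) : u = v := by
  refine sub_eq_zero.1 (D.hQ.1 _ fun y => ?_)
  have e : (polarBilin Q) (u - v) = 0 := D.hom_ext fun a z => by
    show polar Q (u - v) (T a z) = 0
    rw [QuadraticMap.polar_comm, ← D.f_C, map_sub, h, sub_self, map_zero]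
  exact LinearMap.congr_fun e y

theorem T_injective {r : W} (hr : r ≠ 0) {a b : U} (h : T a r = T b r) : a = b := by
  obtain ⟨z, hz⟩ : ∃ z, g z r ≠ 0 := by
    by_contra! hc
    exact hr (D.hg.2 r hc)
  have := congrArg (D.C z) h
  rw [D.C_T, D.C_T] at this
  exact smul_right_injective U hz this

theorem T_eq_zero {r : W} (hr : r ≠ 0) {a : U} (h : T a r = 0) : a = 0 :=
  D.T_injective hr (b := 0) (by rw [h, map_zero, LinearMap.zero_apply])

theorem C_apply (g₀ : OQ Q) (a : U) (z : W) (v : V) :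
    polar Q ((g₀ : V ≃ₗ[F] V) (T a z)) ((g₀ : V ≃ₗ[F] V) v) = f a (D.C z v) := by
  rw [OQ.map_polar, D.f_C]

/-- The short root map on two orthogonal lines. -/
noncomputable def sh (w r : W) (θ : U →ₗ[F] U) : V →ₗ[F] V :=
  LinearMap.id + T.flip w ∘ₗ θ ∘ₗ D.C r + T.flip r ∘ₗ D.adj θ ∘ₗ D.C w

theorem sh_apply (w r : W) (θ : U →ₗ[F] U) (v : V) :
    D.sh w r θ v = v + T (θ (D.C r v)) w + T (D.adj θ (D.C w v)) r := rfl

theorem sh_swap (w r : W) (θ : U →ₗ[F] U) : D.sh r w (D.adj θ) = D.sh w r θ := LinearMap.ext fun v => by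
  rw [D.sh_apply, D.sh_apply, D.adj_adj]; abel

theorem sh_smul (w r : W) (c : F) (θ : U →ₗ[F] U) : D.sh w (c • r) θ = D.sh w r (c • θ) := LinearMap.ext fun v => by
  simp [D.sh_apply, D.adj_smul]

theorem sh_zero (w r : W) : D.sh w r 0 = LinearMap.id := LinearMap.ext fun v => by
  simp [D.sh_apply, D.adj_zero]

theorem sh_add {w r : W} (h : g w r = 0) (θ τ : U →ₗ[F] U) :
    D.sh w r θ ∘ₗ D.sh w r τ = D.sh w r (θ + τ) := LinearMap.ext fun v => by
  have h' : g r w = 0 := by rw [Symp.swap D.hgA, h, neg_zero]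
  simp [D.sh_apply, D.C_T, D.adj_add, h, h', D.hgA w, D.hgA r]
  abel

theorem sh_pure (w r : W) (x : U) (y : W) (θ : U →ₗ[F] U) :
    D.sh w r θ (T x y) = T x y + g r y • T (θ x) w + g w y • T (D.adj θ x) r := by
  simp [D.sh_apply, D.C_T]

/-- The transvection map of a line of the second factor. -/
noncomputable def trz (z : W) (c : F) : V →ₗ[F] V := LinearMap.id + c • (T.flip z ∘ₗ D.C z)

theorem trz_apply (z : W) (c : F) (v : V) : D.trz z c v = v + c • T (D.C z v) z := rfl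

theorem trz_pure (z : W) (c : F) (x : U) (y : W) : D.trz z c (T x y) = T x y + (c * g z y) • T x z := by
  simp [D.trz_apply, D.C_T, smul_smul]

end Data

/-- A linear map is induced by an element of the subgroup. -/
def Mem (K : Subgroup (OQ Q)) (L : V →ₗ[F] V) : Prop := ∃ k ∈ K, ∀ v, (k : V ≃ₗ[F] V) v = L v

variable {K : Subgroup (OQ Q)}

theorem mem_id : Mem K LinearMap.id := ⟨1, K.one_mem, fun _ => rfl⟩

theorem Mem.comp {L M : V →ₗ[F] V} (hL : Mem K L) (hM : Mem K M) : Mem K (L ∘ₗ M) := by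
  obtain ⟨a, ha, ea⟩ := hL
  obtain ⟨b, hb, eb⟩ := hM
  refine ⟨a * b, K.mul_mem ha hb, fun v => ?_⟩
  show (a : V ≃ₗ[F] V) ((b : V ≃ₗ[F] V) v) = _
  rw [eb, ea, LinearMap.comp_apply]

/-- The commutator of two induced maps. -/
theorem Mem.comm {L M S : V →ₗ[F] V} (hL : Mem K L) (hM : Mem K M) (h : ∀ v, L (M v) = S (M (L v))) :
    Mem K S := by
  obtain ⟨a, ha, ea⟩ := hL
  obtain ⟨b, hb, eb⟩ := hM
  refine ⟨a * b * a⁻¹ * b⁻¹, K.mul_mem (K.mul_mem (K.mul_mem ha hb) (K.inv_mem ha)) (K.inv_mem hb), fun v => ?_⟩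
  obtain ⟨x, rfl⟩ := (b * a : OQ Q).1.surjective v
  have e : ((b * a : OQ Q) : V ≃ₗ[F] V) x = M (L x) := by
    show (b : V ≃ₗ[F] V) ((a : V ≃ₗ[F] V) x) = _
    rw [ea, eb]
  rw [show ((a * b * a⁻¹ * b⁻¹ : OQ Q) : V ≃ₗ[F] V) (((b * a : OQ Q) : V ≃ₗ[F] V) x) =
    (((a * b * a⁻¹ * b⁻¹) * (b * a) : OQ Q) : V ≃ₗ[F] V) x from rfl, show (a * b * a⁻¹ * b⁻¹) * (b * a) = a * b by
      group]
  show (a : V ≃ₗ[F] V) ((b : V ≃ₗ[F] V) x) = _
  rw [eb, ea, e, h]

end CfsgLib.Geo.SympTensor
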