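/-
The coefficients of short root elements form an algebra independent of the lines.
-/
import Cfsg.Agent.Lib.Geo.SympTensor.Basic

set_option autoImplicit false
set_option linter.unusedSectionVars false

namespace CfsgLib.Geo.SympTensor

open CfsgLib.Classical CfsgLib.Classical.Quad CfsgLib.Geo.OrthMax Module
open QuadraticMap (polar polarBilin)
open LinearMap (BilinForm)

variable {F : Type*} [Field F] {U W V : Type*} [AddCommGroup U] [Module F U] [FiniteDimensional F U]
  [AddCommGroup W] [Module F W] [FiniteDimensional F W] [AddCommGroup V] [Module F V] [FiniteDimensional F V]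
  {Q : QuadraticForm F V} {f : BilinForm F U} {g : BilinForm F W} {T : U →ₗ[F] W →ₗ[F] V}

/-- An overgroup of the tensor product of the two symplectic groups. -/
structure Over (D : Data Q f g T) (K : Subgroup (OQ Q)) : Prop where
  sh_one : ∀ w r, g w r = 0 → Mem K (D.sh w r LinearMap.id)
  trz_mem : ∀ z c, Mem K (D.trz z c)
  left : ∀ (e : U) (c : F), ∃ k ∈ K, ∀ x y,
    (k : V ≃ₗ[F] V) (T x y) = T (x + (c * f e x) • e) y

/-- A coefficient occurring on every orthogonal pair of lines. -/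
def InT (D : Data Q f g T) (K : Subgroup (OQ Q)) (θ : U →ₗ[F] U) : Prop :=
  ∀ w r, g w r = 0 → Mem K (D.sh w r θ)

/-- Some coefficient is not a scalar. -/
def Good (D : Data Q f g T) (K : Subgroup (OQ Q)) : Prop :=
  ∃ θ, InT D K θ ∧ ∀ c : F, θ ≠ c • LinearMap.id

namespace Data

variable (D : Data Q f g T)
include D

/-- A vector with prescribed product with a vector outside a subspace. -/
theorem exists_dual {S : Submodule F W} {r : W} (hr : r ∉ S) :
    ∃ r', g r r' = 1 ∧ ∀ u ∈ S, g u r' = 0 := Bilin.exists_sep D.hg hr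

/-- The orthogonal space of a finite set. -/
theorem finrank_orth (S : Submodule F W) :
    finrank F W ≤ finrank F (g.orthogonal S) + finrank F S := by
  rw [LinearMap.BilinForm.finrank_orthogonal D.hg]
  omega

theorem exists_two_avoid (S : Finset W) (hS : S.card ≤ 3) {A B : Submodule F W}
    (hA : finrank F A ≤ 2) (hB : finrank F B ≤ 2) :
    ∃ t, (∀ u ∈ S, g u t = 0) ∧ t ∉ A ∧ t ∉ B := by
  have h3 : 3 ≤ finrank F (g.orthogonal (Submodule.span F (S : Set W))) := by
    have h1 := D.finrank_orth (Submodule.span F (S : Set W))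
    have h2 : finrank F (Submodule.span F (S : Set W)) ≤ S.card := finrank_span_finset_le_card S
    have := D.six
    omega
  set Z := g.orthogonal (Submodule.span F (S : Set W))
  have hZ : ∀ t ∈ Z, ∀ u ∈ S, g u t = 0 := fun t ht u hu => ht u (Submodule.subset_span hu)
  obtain ⟨a, haZ, ha⟩ := Set.not_subset.1 (fun h : (Z : Set W) ⊆ A => by
    have := Submodule.finrank_mono (t := A) h; omega)
  obtain ⟨b, hbZ, hb⟩ := Set.not_subset.1 (fun h : (Z : Set W) ⊆ B => by
    have := Submodule.finrank_mono (t := B) h; omega)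
  by_cases ha' : a ∈ B
  · by_cases hb' : b ∈ A
    · refine ⟨a + b, hZ _ (Z.add_mem haZ hbZ), fun h => ha ?_, fun h => hb ?_⟩
      · simpa using A.sub_mem h hb'
      · simpa using B.sub_mem h ha'
    · exact ⟨b, hZ _ hbZ, hb', hb⟩
  · exact ⟨a, hZ _ haZ, ha, ha'⟩

theorem finrank_pair_le (w r : W) : finrank F (Submodule.span F ({w, r} : Set W)) ≤ 2 := by
  classical
  have h : ({w, r} : Set W) = (({w, r} : Finset W) : Set W) := by simp
  rw [h]
  exact (finrank_span_finset_le_card _).trans Finset.card_le_two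

variable {K : Subgroup (OQ Q)}

/-- The commutator formula. -/
theorem mem_mul {w r r' s : W} {θ τ : U →ₗ[F] U} (hwr : g w r = 0) (hr's : g r' s = 0) (hrr' : g r r' = 1)
    (hwr' : g w r' = 0) (hws : g w s = 0) (hrs : g r s = 0)
    (h1 : Mem K (D.sh w r θ)) (h2 : Mem K (D.sh r' s τ)) : Mem K (D.sh w s (θ ∘ₗ τ)) := by
  refine h1.comm h2 fun v => ?_
  have n : ∀ {a b : W}, g a b = 0 → g b a = 0 := fun {a b} h => by rw [Symp.swap D.hgA, h, neg_zero]
  have hr'r : g r' r = -1 := by rw [Symp.swap D.hgA, hrr']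
  simp only [D.sh_apply, map_add, D.C_T, n hwr, n hr's, hrr', hr'r, hwr', n hwr', hws, n hws, hrs, n hrs, hwr, hr's,
    D.hgA w, D.hgA r, D.hgA r', D.hgA s, zero_smul, one_smul, neg_smul, map_zero, map_neg, LinearMap.zero_apply,
    LinearMap.add_apply, LinearMap.neg_apply, LinearMap.comp_apply, D.adj_comp, add_zero, zero_add]
  abel

end Data

namespace Over

variable {D : Data Q f g T} {K : Subgroup (OQ Q)} (O : Over D K)
include O

/-- Moving the second line. -/
theorem move {w r s : W} {θ : U →ₗ[F] U} (hwr : g w r = 0) (hws : g w s = 0) (hrs : g r s = 0)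
    (hr : r ∉ Submodule.span F ({w, s} : Set W)) (h : Mem K (D.sh w r θ)) : Mem K (D.sh w s θ) := by
  obtain ⟨r', hrr', hr'⟩ := D.exists_dual hr
  have hwr' := hr' w (Submodule.subset_span (Set.mem_insert _ _))
  have hsr' := hr' s (Submodule.subset_span (Set.mem_insert_of_mem _ rfl))
  have hr's : g r' s = 0 := by rw [Symp.swap D.hgA, hsr', neg_zero]
  simpa using D.mem_mul hwr hr's hrr' hwr' hws hrs h (O.sh_one r' s hr's)

/-- One pair gives every pair with the same first line. -/
theorem move_second {w r s : W} {θ : U →ₗ[F] U} (hwr : g w r = 0) (hws : g w s = 0)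
    (hr : r ∉ Submodule.span F {w}) (h : Mem K (D.sh w r θ)) : Mem K (D.sh w s θ) := by
  classical
  obtain ⟨t, ht, ht1, ht2⟩ := D.exists_two_avoid {w, r, s} Finset.card_le_three
    (D.finrank_pair_le w r) (D.finrank_pair_le w s)
  have hwt := ht w (by simp)
  have hrt := ht r (by simp)
  have hst := ht s (by simp)
  refine O.move hwt hws (by rw [Symp.swap D.hgA, hst, neg_zero]) ht2 (O.move hwr hwt hrt ?_ h)
  intro hm
  obtain ⟨a, b, e⟩ := Submodule.mem_span_pair.1 hm
  by_cases hb : b = 0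
  · rw [hb, zero_smul, add_zero] at e
    exact hr (Submodule.mem_span_singleton.2 ⟨a, e⟩)
  · refine ht1 (Submodule.mem_span_pair.2 ⟨-(b⁻¹ * a), b⁻¹, ?_⟩)
    rw [← e, smul_add, smul_smul, smul_smul, inv_mul_cancel₀ hb, one_smul]
    module

theorem inT_of_mem {w r : W} {θ : U →ₗ[F] U} (hw : w ≠ 0) (hwr : g w r = 0) (hr : r ∉ Submodule.span F {w})
    (h : Mem K (D.sh w r θ)) : InT D K θ := by
  classical
  intro w₂ r₂ hwr₂
  by_cases hw₂ : w₂ = 0
  · refine ⟨1, K.one_mem, fun v => ?_⟩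
    simp [D.sh_apply, hw₂]
  obtain ⟨t, ht, ht1, ht2⟩ := D.exists_two_avoid {w, w₂} (Finset.card_le_two.trans (by norm_num))
    (D.finrank_pair_le w w₂) (D.finrank_pair_le w w₂)
  have hwt := ht w (by simp)
  have htw : g t w = 0 := by rw [Symp.swap D.hgA, hwt, neg_zero]
  have htw₂ : g t w₂ = 0 := by rw [Symp.swap D.hgA, ht w₂ (by simp), neg_zero]
  have hwnt : w ∉ Submodule.span F {t} := fun hm => ht1 (by
    obtain ⟨a, ha⟩ := Submodule.mem_span_singleton.1 hm
    have ha0 : a ≠ 0 := fun e => hw (by rw [← ha, e, zero_smul])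
    exact Submodule.mem_span_pair.2 ⟨a⁻¹, 0, by rw [← ha, inv_smul_smul₀ ha0, zero_smul, add_zero]⟩)
  have h1 := O.move_second hwr hwt hr h
  rw [← D.sh_swap] at h1
  have h2 := O.move_second htw htw₂ hwnt h1
  rw [← D.sh_swap, D.adj_adj] at h2
  exact O.move_second (by rw [Symp.swap D.hgA, htw₂, neg_zero]) hwr₂ (fun hm => ht1 (by
    obtain ⟨a, ha⟩ := Submodule.mem_span_singleton.1 hm
    exact Submodule.mem_span_pair.2 ⟨0, a, by rw [ha, zero_smul, zero_add]⟩)) h2

theorem exists_pair : ∃ w r : W, w ≠ 0 ∧ g w r = 0 ∧ r ∉ Submodule.span F {w} := by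
  classical
  obtain ⟨w, -, hw, -⟩ := D.exists_two_avoid ∅ (by simp) (A := ⊥) (B := ⊥) (by simp) (by simp)
  obtain ⟨r, hr, hr1, -⟩ := D.exists_two_avoid {w} (by simp) (D.finrank_pair_le w w) (D.finrank_pair_le w w)
  refine ⟨w, r, fun e => hw (by simp [e]), hr w (by simp), fun h => hr1 ?_⟩
  simpa using h

theorem inT_id : InT D K LinearMap.id := fun w r h => O.sh_one w r h

theorem inT_add {θ τ : U →ₗ[F] U} (h : InT D K θ) (h' : InT D K τ) : InT D K (θ + τ) := fun w r hwr => by
  rw [← D.sh_add hwr]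
  exact (h w r hwr).comp (h' w r hwr)

theorem inT_smul (c : F) {θ : U →ₗ[F] U} (h : InT D K θ) : InT D K (c • θ) := fun w r hwr => by
  rw [← D.sh_smul]
  exact h w (c • r) (by rw [map_smul, hwr, smul_zero])

theorem inT_adj {θ : U →ₗ[F] U} (h : InT D K θ) : InT D K (D.adj θ) := fun w r hwr => by
  rw [← D.sh_swap, D.adj_adj]
  exact h r w (by rw [Symp.swap D.hgA, hwr, neg_zero])

theorem inT_comp {θ τ : U →ₗ[F] U} (h : InT D K θ) (h' : InT D K τ) : InT D K (θ ∘ₗ τ) := by
  classical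
  obtain ⟨w, r, hw, hwr, hr⟩ := O.exists_pair
  obtain ⟨s, hs, hs1, hs2⟩ := D.exists_two_avoid {w, r} (Finset.card_le_two.trans (by norm_num))
    (D.finrank_pair_le w r) (D.finrank_pair_le w r)
  have hws := hs w (by simp)
  have hrs := hs r (by simp)
  have hr2 : r ∉ Submodule.span F ({w, s} : Set W) := fun hm => by
    obtain ⟨a, b, e⟩ := Submodule.mem_span_pair.1 hm
    by_cases hb : b = 0
    · rw [hb, zero_smul, add_zero] at e
      exact hr (Submodule.mem_span_singleton.2 ⟨a, e⟩)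
    · refine hs1 (Submodule.mem_span_pair.2 ⟨-(b⁻¹ * a), b⁻¹, ?_⟩)
      rw [← e, smul_add, smul_smul, smul_smul, inv_mul_cancel₀ hb, one_smul]
      module
  obtain ⟨r', hrr', hr'⟩ := D.exists_dual hr2
  have hwr' := hr' w (Submodule.subset_span (Set.mem_insert _ _))
  have hr's : g r' s = 0 := by
    rw [Symp.swap D.hgA, hr' s (Submodule.subset_span (Set.mem_insert_of_mem _ rfl)), neg_zero]
  refine O.inT_of_mem hw hws (fun hm => hs1 ?_) (D.mem_mul hwr hr's hrr' hwr' hws hrs (h w r hwr) (h' r' s hr's))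
  obtain ⟨a, ha⟩ := Submodule.mem_span_singleton.1 hm
  exact Submodule.mem_span_pair.2 ⟨a, 0, by rw [ha, zero_smul, add_zero]⟩

/-- The coefficients are invariant under the transvections of the first factor. -/
theorem inT_conj {θ : U →ₗ[F] U} (h : InT D K θ) (e : U) (c : F) :
    InT D K ((LinearMap.id + c • (f e).smulRight e) ∘ₗ θ ∘ₗ (LinearMap.id - c • (f e).smulRight e)) := by
  intro w r hwr
  obtain ⟨k, hk, ek⟩ := O.left e c
  obtain ⟨s, hs, es⟩ := h w r hwr
  refine ⟨k * s * k⁻¹, K.mul_mem (K.mul_mem hk hs) (K.inv_mem hk), fun v => ?_⟩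
  obtain ⟨x, rfl⟩ := (k : V ≃ₗ[F] V).surjective v
  show (k : V ≃ₗ[F] V) ((s : V ≃ₗ[F] V) ((k : V ≃ₗ[F] V).symm ((k : V ≃ₗ[F] V) x))) = _
  rw [LinearEquiv.symm_apply_apply, es]
  set A : U →ₗ[F] U := LinearMap.id + c • (f e).smulRight e
  set A' : U →ₗ[F] U := LinearMap.id - c • (f e).smulRight e
  have hkA : ∀ a y, (k : V ≃ₗ[F] V) (T a y) = T (A a) y := fun a y => by
    rw [ek]; simp [A, smul_smul]
  have hA'A : ∀ a, A' (A a) = a := fun a => by
    simp [A, A', D.hfA e, smul_smul]
  have hiso : ∀ a b, f (A a) (A b) = f a b := fun a b => by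
    simp [A, D.hfA e, Symp.swap D.hfA e a]
    ring
  have hC : ∀ z, D.C z ((k : V ≃ₗ[F] V) x) = A (D.C z x) := fun z => D.fext fun a => by
    obtain ⟨b, rfl⟩ : ∃ b, A b = a := by
      have hinj : Function.Injective A := fun p q hpq => by rw [← hA'A p, hpq, hA'A]
      exact LinearMap.injective_iff_surjective.1 hinj a
    rw [D.f_C, ← hkA, D.C_apply, hiso]
  have hadj : D.adj (A ∘ₗ θ ∘ₗ A') = A ∘ₗ D.adj θ ∘ₗ A' := D.adj_eq fun a b => by
    have hA'2 : ∀ p, A (A' p) = p := fun p => by simp [A, A', D.hfA e, smul_smul]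
    conv_lhs => rw [← hA'2 b]
    simp only [LinearMap.comp_apply, hiso, D.adj_left]
    conv_rhs => rw [← hA'2 a, hiso]
  rw [D.sh_apply, D.sh_apply, map_add, map_add, hkA, hkA, hC, hC, hadj]
  simp only [LinearMap.comp_apply, hA'A]

end Over

end CfsgLib.Geo.SympTensor
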