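/-
Elements of the radical of a singular line yield coefficients.
-/
import Cfsg.Agent.Lib.Geo.SympTensor.Roots

set_option autoImplicit false
set_option linter.unusedSectionVars false

namespace CfsgLib.Geo.SympTensor

open CfsgLib.Classical CfsgLib.Classical.Quad CfsgLib.Geo.OrthMax Module
open QuadraticMap (polar polarBilin)
open LinearMap (BilinForm)

variable {F : Type*} [Field F] {U W V : Type*} [AddCommGroup U] [Module F U] [FiniteDimensional F U]
  [AddCommGroup W] [Module F W] [FiniteDimensional F W] [AddCommGroup V] [Module F V] [FiniteDimensional F V]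
  {Q : QuadraticForm F V} {f : BilinForm F U} {g : BilinForm F W} {T : U →ₗ[F] W →ₗ[F] V}
  {D : Data Q f g T} {K : Subgroup (OQ Q)}

namespace Over

variable (O : Over D K)
include O

theorem extract {w r : W} (hw : w ≠ 0) (hwr : g w r = 0) (hr : r ∉ Submodule.span F {w}) {k : OQ Q} (hk : k ∈ K)
    (N : W → (U →ₗ[F] U)) (h0 : ∀ a, (k : V ≃ₗ[F] V) (T a w) = T a w)
    (hN : ∀ y, g w y = 0 → ∀ a, (k : V ≃ₗ[F] V) (T a y) = T a y + T (N y a) w) : InT D K (N r) := by
  classical
  obtain ⟨s, hs, hs1, -⟩ := D.exists_two_avoid {w, r} (Finset.card_le_two.trans (by norm_num))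
    (D.finrank_pair_le w r) (D.finrank_pair_le w r)
  obtain ⟨t, hst, ht⟩ := D.exists_dual hs1
  have hws := hs w (by simp)
  have hrs := hs r (by simp)
  have hwt := ht w (Submodule.subset_span (Set.mem_insert _ _))
  have hrt := ht r (Submodule.subset_span (Set.mem_insert_of_mem _ rfl))
  have n : ∀ {a b : W}, g a b = 0 → g b a = 0 := fun {a b} h => by rw [Symp.swap D.hgA, h, neg_zero]
  have hts : g t s = -1 := by rw [Symp.swap D.hgA, hst]
  have hCy : ∀ y, g w y = 0 → ∀ v, D.C y ((k : V ≃ₗ[F] V) v) = D.C y v - D.adj (N y) (D.C w v) := by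
    intro y hy v
    refine D.fext fun a => ?_
    rw [D.f_C, map_sub, D.f_C, ← D.adj_right, D.f_C]
    have e : T a y = (k : V ≃ₗ[F] V) (T a y) - (k : V ≃ₗ[F] V) (T (N y a) w) := by
      rw [hN y hy, h0, add_sub_cancel_right]
    conv_lhs => rw [e, ← map_sub, OQ.map_polar, QuadraticMap.polar_sub_left]
  have hCw : ∀ v, D.C w ((k : V ≃ₗ[F] V) v) = D.C w v := fun v => by
    refine D.fext fun a => ?_
    rw [D.f_C, ← h0 a, OQ.map_polar, D.f_C]
  set P := D.sh w s (N r) ∘ₗ D.sh w r (N s) ∘ₗ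
    D.sh w w (N r ∘ₗ D.adj (N s)) with hP
  have hPv : ∀ v, P v = v + T (N r (D.C s v)) w + T (D.adj (N r) (D.C w v)) s + T (N s (D.C r v)) w +
      T (D.adj (N s) (D.C w v)) r + T ((N r ∘ₗ D.adj (N s) + N s ∘ₗ D.adj (N r)) (D.C w v)) w := by
    intro v
    simp only [hP, LinearMap.comp_apply, D.sh_apply, map_add, D.C_T, D.hgA w, D.hgA r, hwr, n hwr, hws, n hws,
      hrs, n hrs, zero_smul, map_zero, LinearMap.zero_apply, add_zero, D.adj_comp, D.adj_adj, LinearMap.add_apply,
      LinearMap.comp_apply]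
    abel
  have hPm : Mem K P := by
    refine Mem.comm (L := ((k : V ≃ₗ[F] V) : V →ₗ[F] V)) ⟨k, hk, fun v => rfl⟩ (O.sh_one r s hrs) fun v => ?_
    simp only [LinearEquiv.coe_coe, hPv, D.sh_apply, LinearMap.id_apply, D.adj_id, map_add, D.C_T, D.hgA w, D.hgA r,
      D.hgA s, hwr, n hwr, hws, n hws, hrs, n hrs, zero_smul, add_zero, hCy r hwr, hCy s hws, hCw, hN r hwr,
      hN s hws, map_sub, LinearMap.add_apply, LinearMap.sub_apply, LinearMap.comp_apply, map_zero, LinearMap.zero_apply]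
    abel
  refine O.inT_of_mem hw hwr hr (hPm.comm (O.sh_one t r (n hrt)) fun v => ?_)
  simp only [hPv, D.sh_apply, LinearMap.id_apply, D.adj_id, map_add, D.C_T, D.hgA w, D.hgA r, D.hgA s, D.hgA t,
    hwr, n hwr, hws, n hws, hrs, n hrs, hwt, n hwt, hrt, n hrt, hts, hst, zero_smul, one_smul, neg_smul, map_neg,
    LinearMap.neg_apply, map_zero, LinearMap.zero_apply, add_zero, zero_add, LinearMap.add_apply]
  abel

end Over

end CfsgLib.Geo.SympTensor
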