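/-
Without a non-scalar coefficient, an element sending a singular line to a line is a Kronecker product.
-/
import Cfsg.Agent.Lib.Geo.SympTensor.Extract

set_option autoImplicit false
set_option linter.unusedSectionVars false

namespace CfsgLib.Geo.SympTensor

open CfsgLib.Classical CfsgLib.Classical.Quad CfsgLib.Geo.OrthMax Module
open QuadraticMap (polar polarBilin)
open LinearMap (BilinForm)

variable {F : Type*} [Field F] {U W V : Type*} [AddCommGroup U] [Module F U] [FiniteDimensional F U]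
  [AddCommGroup W] [Module F W] [FiniteDimensional F W] [AddCommGroup V] [Module F V] [FiniteDimensional F V]
  {Q : QuadraticForm F V} {f : BilinForm F U} {g : BilinForm F W} {T : U →ₗ[F] W →ₗ[F] V}
  {D : Data Q f g T} {K : Subgroup (OQ Q)}

/-- An element mapping pure tensors to pure tensors. -/
def Kr (T : U →ₗ[F] W →ₗ[F] V) (k : OQ Q) : Prop :=
  ∃ A : U →ₗ[F] U, ∀ y, ∃ r, ∀ a, (k : V ≃ₗ[F] V) (T a y) = T (A a) r

/-- A linear map with every vector an eigenvector is a scalar. -/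
theorem scalar_of_eigen {L : U →ₗ[F] U} (h : ∀ v, ∃ c : F, L v = c • v) :
    ∃ c : F, L = c • LinearMap.id := by
  by_cases hU : ∀ v : U, v = 0
  · exact ⟨0, LinearMap.ext fun v => by simp [hU v]⟩
  push Not at hU
  obtain ⟨u, hu⟩ := hU
  obtain ⟨c, hc⟩ := h u
  refine ⟨c, LinearMap.ext fun v => ?_⟩
  show L v = c • v
  by_cases hv : v ∈ Submodule.span F {u}
  · obtain ⟨a, rfl⟩ := Submodule.mem_span_singleton.1 hv
    rw [map_smul, hc, smul_comm]
  obtain ⟨d, hd⟩ := h v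
  obtain ⟨e, he⟩ := h (u + v)
  rw [map_add, hc, hd] at he
  have h1 : (c - e) • u + (d - e) • v = 0 := by linear_combination (norm := module) he
  by_cases hde : d - e = 0
  · rw [hde, zero_smul, add_zero, smul_eq_zero] at h1
    rw [hd, sub_eq_zero.1 hde, ← sub_eq_zero.1 (h1.resolve_right hu)]
  · refine absurd (Submodule.mem_span_singleton.2 ⟨-((d - e)⁻¹ * (c - e)), ?_⟩) hv
    rw [neg_smul, mul_smul, eq_neg_of_add_eq_zero_left h1, smul_neg, inv_smul_smul₀ hde, neg_neg]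

namespace Over

variable (O : Over D K)
include O

theorem scalar (hG : ¬ Good D K) {θ : U →ₗ[F] U} (h : InT D K θ) : ∃ c : F, θ = c • LinearMap.id := by
  by_contra hc
  push Not at hc
  exact hG ⟨θ, h, hc⟩

theorem line_core (hG : ¬ Good D K) {x : OQ Q} (hx : x ∈ K) {w w' : W} (hw : w ≠ 0) {A₀ : U →ₗ[F] U}
    (hA : ∀ a, (x : V ≃ₗ[F] V) (T a w) = T (A₀ a) w') :
    ∀ y, g w y = 0 → ∃ r, ∀ a, (x : V ≃ₗ[F] V) (T a y) = T (A₀ a) r := by
  have hA0inj : Function.Injective A₀ := fun a b e =>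
    D.T_injective hw ((x : V ≃ₗ[F] V).injective (by rw [hA, hA, e]))
  have hA0surj := LinearMap.injective_iff_surjective.1 hA0inj
  have hw' : w' ≠ 0 := by
    intro e
    have : Nontrivial U := Module.nontrivial_of_finrank_pos (R := F) (by have := D.two; omega)
    obtain ⟨a, ha⟩ := exists_ne (0 : U)
    refine ha (D.T_eq_zero hw ((x : V ≃ₗ[F] V).injective ?_))
    rw [hA, e, map_zero, map_zero]
  obtain ⟨A₀i, hA₀i⟩ : ∃ A : U →ₗ[F] U, ∀ a, A₀ (A a) = a :=
    ⟨(LinearEquiv.ofBijective A₀ ⟨hA0inj, hA0surj⟩).symm.toLinearMap,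
      fun a => (LinearEquiv.ofBijective A₀ ⟨hA0inj, hA0surj⟩).apply_symm_apply a⟩
  set xi : V → V := fun v => (x : V ≃ₗ[F] V).symm v
  have hxi : ∀ v, (x : V ≃ₗ[F] V) (xi v) = v := fun v => (x : V ≃ₗ[F] V).apply_symm_apply v
  have hxw : ∀ a, xi (T a w') = T (A₀i a) w := fun a => (x : V ≃ₗ[F] V).injective (by rw [hxi, hA, hA₀i])
  have hCw : ∀ a y', g w' y' = 0 → D.C w (xi (T a y')) = 0 := fun a y' hy' => D.fext fun c => by
    rw [D.f_C, ← OQ.map_polar x, hxi, hA, D.polarT, hy', mul_zero, map_zero]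
  set A₁ := D.adj A₀i with hA₁
  -- the middle part
  have hmid : ∀ y, g w y = 0 → ∀ y', g w' y' = 0 →
      ∃ μ : F, (∀ a, D.C y (xi (T a y')) = μ • A₀i a) ∧
        ∀ c, D.C y' ((x : V ≃ₗ[F] V) (T c y)) = -μ • A₁ c := by
    intro y hy y' hy'
    obtain ⟨μ, hμ⟩ : ∃ μ : F, ∀ a, A₀ (D.C y (xi (T a y'))) = μ • a := by
      by_cases hm : y' ∈ Submodule.span F {w'}
      · obtain ⟨c, rfl⟩ := Submodule.mem_span_singleton.1 hm
        refine ⟨0, fun a => ?_⟩
        rw [map_smul, ← LinearMap.smul_apply, ← map_smul, hxw, D.C_T, Symp.swap D.hgA w y, hy]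
        simp
      obtain ⟨s, hs, es⟩ := O.sh_one w y hy
      have es' : ∀ a y'', g w' y'' = 0 → ((x * s * x⁻¹ : OQ Q) : V ≃ₗ[F] V) (T a y'') =
          T a y'' + T (A₀ (D.C y (xi (T a y'')))) w' := fun a y'' h'' => by
        show (x : V ≃ₗ[F] V) ((s : V ≃ₗ[F] V) (xi (T a y''))) = _
        rw [es, D.sh_apply, hCw a y'' h'', map_zero, map_zero, LinearMap.zero_apply, add_zero, map_add, hxi,
          LinearMap.id_apply, hA]
      let N : W → (U →ₗ[F] U) := fun y'' =>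
        A₀ ∘ₗ D.C y ∘ₗ (x : V ≃ₗ[F] V).symm.toLinearMap ∘ₗ T.flip y''
      obtain ⟨μ, hμ⟩ := O.scalar hG (O.extract hw' hy' hm (K.mul_mem (K.mul_mem hx hs) (K.inv_mem hx)) N
        (fun a => by
          rw [es' a w' (D.hgA w'), hxw, D.C_T, Symp.swap D.hgA w y, hy]
          simp)
        (fun y'' h'' a => es' a y'' h''))
      exact ⟨μ, fun a => LinearMap.congr_fun hμ a⟩
    refine ⟨μ, fun a => hA0inj (by rw [hμ, map_smul, hA₀i]), fun c => D.fext fun a => ?_⟩
    have h1 : polar Q ((x : V ≃ₗ[F] V) (T c y)) (T a y') = f c (D.C y (xi (T a y'))) := by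
      rw [D.f_C, ← OQ.map_polar x (T c y) (xi (T a y')), hxi]
    have h2 : D.C y (xi (T a y')) = μ • A₀i a := hA0inj (by rw [hμ, map_smul, hA₀i])
    rw [D.f_C, QuadraticMap.polar_comm, h1, h2, map_smul, map_smul, smul_eq_mul, smul_eq_mul,
      Symp.swap D.hfA (A₁ c) a, hA₁, D.adj_left]
    ring
  have hA₁inj : Function.Injective A₁ := fun p q e => D.fext fun a => by
    have h1 : ∀ p, f p a = f (A₁ p) (A₀ a) := fun p => by
      rw [hA₁, D.adj_left, show A₀i (A₀ a) = a from hA0inj (hA₀i (A₀ a))]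
    rw [Symp.swap D.hfA p a, Symp.swap D.hfA q a, h1, h1, e]
  obtain ⟨w'', hw'', -⟩ := D.exists_dual (S := ⊥) (r := w') (by simpa using hw')
  have hCww : ∀ c y, g w y = 0 → D.C w' ((x : V ≃ₗ[F] V) (T c y)) = 0 := fun c y hy => D.fext fun a => by
    obtain ⟨b, rfl⟩ := hA0surj a
    rw [D.f_C, ← hA, OQ.map_polar, D.polarT, hy, mul_zero, map_zero]
  -- decomposition
  have hdec : ∀ y, g w y = 0 → ∃ (r : W) (θ : U →ₗ[F] U), g w' r = 0 ∧
      ∀ c, (x : V ≃ₗ[F] V) (T c y) = T (A₁ c) r + T (θ c) w' := by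
    intro y hy
    have : Nontrivial U := Module.nontrivial_of_finrank_pos (R := F) (by have := D.two; omega)
    obtain ⟨c₀, hc₀⟩ := exists_ne (0 : U)
    obtain ⟨χ, hχ⟩ := Module.Projective.exists_dual_ne_zero F
      (show A₁ c₀ ≠ 0 from fun e => hc₀ (hA₁inj (by rw [e, map_zero])))
    let ψ₀ : W →ₗ[F] F := ((χ (A₁ c₀))⁻¹ • χ) ∘ₗ D.C.flip ((x : V ≃ₗ[F] V) (T c₀ y))
    obtain ⟨r, hr⟩ := Bilin.exists_right_dual D.hg ψ₀
    have hwr : g w' r = 0 := by
      rw [hr]; simp [ψ₀, hCww c₀ y hy]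
    let L : U →ₗ[F] V := (x : V ≃ₗ[F] V).toLinearMap ∘ₗ T.flip y - T.flip r ∘ₗ A₁
    refine ⟨r, -(D.C w'' ∘ₗ L), hwr, fun c => D.V_ext fun z => ?_⟩
    have hd : ∀ y', g w' y' = 0 → D.C y' (L c) = 0 := fun y' hy' => by
      obtain ⟨μ, -, hμ⟩ := hmid y hy y' hy'
      have e : g y' r = -μ := by
        rw [hr]
        simp [ψ₀, hμ c₀, mul_comm μ, ← mul_assoc, inv_mul_cancel₀ hχ]
      simp [L, hμ c, D.C_T, e]
    have hz : g w' (z - g w' z • w'') = 0 := by rw [map_sub, map_smul, hw'', smul_eq_mul, mul_one, sub_self]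
    have h1 := hd _ hz
    simp only [map_sub, map_smul, LinearMap.sub_apply, LinearMap.smul_apply, sub_eq_zero] at h1
    have hgz : g z w' = -g w' z := Symp.swap D.hgA w' z
    have e1 : D.C z ((x : V ≃ₗ[F] V) (T c y)) = D.C z (L c) + D.C z (T (A₁ c) r) := by
      rw [← map_add]
      congr 1
      simp [L]
    rw [e1, h1, map_add, D.C_T, D.C_T, LinearMap.neg_apply, LinearMap.comp_apply, hgz]
    module
  intro y hy
  by_cases hyw : y ∈ Submodule.span F {w}
  · obtain ⟨c, rfl⟩ := Submodule.mem_span_singleton.1 hyw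
    exact ⟨c • w', fun a => by rw [map_smul, map_smul, hA, map_smul]⟩
  obtain ⟨s, hys, hs⟩ := D.exists_dual hyw
  have hws := hs w (Submodule.mem_span_singleton_self w)
  obtain ⟨r, θ, hr, e⟩ := hdec y hy
  obtain ⟨r₂, θ₂, hr₂, e₂⟩ := hdec s hws
  -- the isometry property
  have hiso : ∀ c c', g r r₂ * f (A₁ c) (A₁ c') = f c c' := fun c c' => by
    have h1 := OQ.map_polar x (T c y) (T c' s)
    rw [e, e₂] at h1
    simp only [polar_add_left', polar_add_right', D.polarT, hr₂, D.hgA w', Symp.swap D.hgA w' r, hr, hys] at h1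
    linear_combination h1
  have hν : g r r₂ ≠ 0 := fun e0 => by
    have : Nontrivial U := Module.nontrivial_of_finrank_pos (R := F) (by have := D.two; omega)
    obtain ⟨c, hc⟩ := exists_ne (0 : U)
    exact hc (D.hf.1 c fun c' => by rw [← hiso, e0, zero_mul])
  have hA10 : ∀ c, A₁ c = (g r r₂)⁻¹ • A₀ c := by
    intro c
    obtain ⟨b, hb⟩ : ∃ b, A₀i b = c := ⟨A₀ c, hA0inj (hA₀i (A₀ c))⟩
    refine D.fext fun a => ?_
    obtain ⟨c', rfl⟩ := LinearMap.injective_iff_surjective.1 hA₁inj a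
    refine mul_left_cancel₀ hν ?_
    rw [hiso, map_smul, smul_eq_mul, ← mul_assoc, mul_inv_cancel₀ hν, one_mul, hA₁, D.adj_left, ← hb, hA₀i]
  set ν := g r r₂
  have hrw : r ∉ Submodule.span F {w'} := fun hm => hν (by
    obtain ⟨c, rfl⟩ := Submodule.mem_span_singleton.1 hm
    simp [ν, hr₂])
  obtain ⟨y', hry', hy'⟩ := D.exists_dual hrw
  have hw'y' := hy' w' (Submodule.mem_span_singleton_self w')
  have hy'w : y' ∉ Submodule.span F {w'} := fun hm => by
    obtain ⟨c, rfl⟩ := Submodule.mem_span_singleton.1 hm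
    rw [map_smul, Symp.swap D.hgA w' r, hr, neg_zero, smul_zero] at hry'
    exact zero_ne_one hry'
  obtain ⟨u, hu, eu⟩ := O.trz_mem y 1
  obtain ⟨u', hu', eu'⟩ := O.trz_mem r (-ν⁻¹)
  have eψ : ∀ a y'', g w' y'' = 0 → ((u' * (x * u * x⁻¹) : OQ Q) : V ≃ₗ[F] V) (T a y'') =
      T a y'' + T ((g r y'' • (θ ∘ₗ A₀i)) a) w' := fun a y'' h'' => by
    show (u' : V ≃ₗ[F] V) ((x : V ≃ₗ[F] V) ((u : V ≃ₗ[F] V) (xi (T a y'')))) = _
    obtain ⟨μ, hμ, hμ'⟩ := hmid y hy y'' h''
    rw [eu, D.trz_apply, one_smul, map_add, hxi, e, hμ a]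
    have hA1i : A₁ (A₀i a) = ν⁻¹ • a := by rw [hA10, hA₀i]
    have hμg : μ = g r y'' := by
      have h1 := hμ' (A₀i a)
      rw [e, map_add, D.C_T, D.C_T, Symp.swap D.hgA w' y'', h'', neg_zero, zero_smul, add_zero, hA1i,
        Symp.swap D.hgA r y''] at h1
      by_cases ha : a = 0
      · obtain ⟨c₀, hc₀⟩ : ∃ c₀ : U, c₀ ≠ 0 := by
          have : Nontrivial U := Module.nontrivial_of_finrank_pos (R := F) (by have := D.two; omega)
          exact exists_ne 0
        have h2 := hμ' c₀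
        rw [e, map_add, D.C_T, D.C_T, Symp.swap D.hgA w' y'', h'', neg_zero, zero_smul, add_zero,
          Symp.swap D.hgA r y''] at h2
        exact (neg_injective (smul_left_injective F
          (fun e' => hc₀ (hA₁inj (by rw [e', map_zero]))) h2)).symm
      · exact (neg_injective (smul_left_injective F (smul_ne_zero (inv_ne_zero hν) ha) h1)).symm
    rw [eu', D.trz_apply, map_smul, map_smul, hA1i, hμg]
    simp only [LinearMap.smul_apply, map_smul, map_add, LinearMap.add_apply, D.C_T, D.hgA r,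
      Symp.swap D.hgA w' r, hr, LinearMap.comp_apply]
    module
  obtain ⟨κ, hκ⟩ := O.scalar hG (O.extract hw' hw'y' hy'w
    (K.mul_mem hu' (K.mul_mem (K.mul_mem hx hu) (K.inv_mem hx))) (fun y'' => g r y'' • (θ ∘ₗ A₀i))
    (fun a => by rw [eψ a w' (D.hgA w'), LinearMap.smul_apply, Symp.swap D.hgA w' r, hr]; simp)
    (fun y'' h'' a => eψ a y'' h''))
  rw [hry', one_smul] at hκ
  refine ⟨ν⁻¹ • r + κ • w', fun a => ?_⟩
  have hθ : θ a = κ • A₀ a := by
    have h1 := LinearMap.congr_fun hκ (A₀ a)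
    rwa [LinearMap.comp_apply, show A₀i (A₀ a) = a from hA0inj (hA₀i (A₀ a))] at h1
  rw [e, hA10, hθ]
  simp only [map_add, map_smul, LinearMap.smul_apply]

/-- **An element sending one line of pure tensors to another is a Kronecker product.** -/
theorem line_kr (hG : ¬ Good D K) {x : OQ Q} (hx : x ∈ K) {w w' : W} (hw : w ≠ 0) {A₀ : U →ₗ[F] U}
    (hA : ∀ a, (x : V ≃ₗ[F] V) (T a w) = T (A₀ a) w') : Kr T x := by
  classical
  have h1 := O.line_core hG hx hw hA
  obtain ⟨u, hu, hu1, -⟩ := D.exists_two_avoid {w} (by simp) (D.finrank_pair_le w w) (D.finrank_pair_le w w)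
  have hu0 : u ≠ 0 := fun e => hu1 (by rw [e]; exact zero_mem _)
  have hwu : w ∉ Submodule.span F {u} := fun hm => hu1 (by
    obtain ⟨c, hc⟩ := Submodule.mem_span_singleton.1 hm
    have hc0 : c ≠ 0 := fun e => hw (by rw [← hc, e, zero_smul])
    exact Submodule.mem_span_pair.2 ⟨c⁻¹, 0, by rw [← hc, inv_smul_smul₀ hc0, zero_smul, add_zero]⟩)
  obtain ⟨ru, hru⟩ := h1 u (hu w (by simp))
  have h2 := O.line_core hG hx hu0 hru
  obtain ⟨w'', hww'', hw''⟩ := D.exists_dual hwu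
  obtain ⟨rw'', hrw''⟩ := h2 w'' (hw'' u (Submodule.mem_span_singleton_self u))
  refine ⟨A₀, fun y => ?_⟩
  obtain ⟨r, hr⟩ := h1 (y - g w y • w'') (by rw [map_sub, map_smul, hww'', smul_eq_mul, mul_one, sub_self])
  refine ⟨r + g w y • rw'', fun a => ?_⟩
  conv_lhs => rw [← sub_add_cancel y (g w y • w'')]
  rw [map_add, map_add, hr, map_smul, map_smul, hrw'', map_add, map_smul]

end Over

end CfsgLib.Geo.SympTensor
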