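/-
An algebra invariant under symplectic transvections, closed under adjoints and not scalar, contains everything.
-/
import Cfsg.Agent.Lib.Geo.SympTensor.Line

set_option autoImplicit false
set_option linter.unusedSectionVars false

namespace CfsgLib.Geo.SympTensor

open CfsgLib.Classical Module
open LinearMap (BilinForm)

variable {F : Type*} [Field F] {U : Type*} [AddCommGroup U] [Module F U] [FiniteDimensional F U]
  {f : BilinForm F U}

/-- The rank one map of two vectors. -/
def R1 (f : BilinForm F U) (v z : U) : U →ₗ[F] U := (f z).smulRight v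

@[simp] theorem R1_apply (v z x : U) : R1 f v z x = f z x • v := rfl

/-- An algebra invariant under transvections and adjoints. -/
structure InvAlg (f : BilinForm F U) (S : Submodule F (U →ₗ[F] U)) : Prop where
  nondeg : f.Nondegenerate
  alt : f.IsAlt
  one : LinearMap.id ∈ S
  mul : ∀ a ∈ S, ∀ b ∈ S, a ∘ₗ b ∈ S
  adj : ∀ a ∈ S, ∃ a' ∈ S, ∀ x y, f (a x) y = f x (a' y)
  conj : ∀ (e : U) (c : F), ∀ a ∈ S, (LinearMap.id + c • R1 f e e) ∘ₗ a ∘ₗ (LinearMap.id - c • R1 f e e) ∈ S

namespace InvAlg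

variable {S : Submodule F (U →ₗ[F] U)} (h : InvAlg f S)
include h

theorem sw (u v : U) : f v u = -f u v := Symp.swap h.alt u v

theorem exists_one {e : U} (he : e ≠ 0) : ∃ x, f e x = 1 := by
  obtain ⟨x, hx, -⟩ := Bilin.exists_sep h.nondeg (U := ⊥) (x := e) (by simpa using he)
  exact ⟨x, hx⟩

theorem sandwich (e : U) (θ : U →ₗ[F] U) : R1 f e e ∘ₗ θ ∘ₗ R1 f e e = f e (θ e) • R1 f e e :=
  LinearMap.ext fun x => by simp [smul_smul]; ring_nf

theorem delta {θ : U →ₗ[F] U} (hθ : θ ∈ S) (e : U) (c : F) :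
    c • (R1 f e e ∘ₗ θ - θ ∘ₗ R1 f e e) - (c * c * f e (θ e)) • R1 f e e ∈ S := by
  convert S.sub_mem (h.conj e c θ hθ) hθ using 1
  refine LinearMap.ext fun x => ?_
  simp [smul_smul, sub_smul]
  module

/-- One transvection element generates everything. -/
theorem all_of_one {e : U} (he : e ≠ 0) (hR : R1 f e e ∈ S) : ∀ θ, θ ∈ S := by
  obtain ⟨p, hp⟩ := h.exists_one he
  have hpe : f p e = -1 := by rw [h.sw e p, hp]
  have hconjR : ∀ {u : U}, R1 f u u ∈ S → ∀ v, R1 f (u + f v u • v) (u + f v u • v) ∈ S := fun {u} hu v => by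
    convert h.conj v 1 _ hu using 1
    refine LinearMap.ext fun x => ?_
    simp only [one_smul, LinearMap.comp_apply, LinearMap.add_apply, LinearMap.sub_apply, LinearMap.id_apply,
      R1_apply, map_add, map_sub, map_smul, LinearMap.smul_apply, smul_eq_mul, h.sw u v, neg_smul, map_neg,
      LinearMap.neg_apply]
    module
  -- one row
  have hrow : ∀ {u : U}, u ≠ 0 → R1 f u u ∈ S → ∀ v, R1 f u v ∈ S := by
    intro u hu huS
    have h1 : ∀ v, f v u ≠ 0 → R1 f u v ∈ S := by
      intro v hv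
      have h2 := h.mul _ huS _ (hconjR huS v)
      have e2 : R1 f u u ∘ₗ R1 f (u + f v u • v) (u + f v u • v) =
          (f v u * f u v) • R1 f u u + (f v u * f u v * f v u) • R1 f u v := LinearMap.ext fun x => by
        simp [h.alt u, smul_smul, add_smul]
        module
      rw [e2, Submodule.add_mem_iff_right _ (S.smul_mem _ huS)] at h2
      have h3 : f u v ≠ 0 := by rw [h.sw v u]; exact neg_ne_zero.2 hv
      exact (S.smul_mem_iff (mul_ne_zero (mul_ne_zero hv h3) hv)).1 h2
    obtain ⟨q, hq⟩ := h.exists_one hu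
    have hqu : f q u ≠ 0 := by rw [h.sw u q, hq]; exact neg_ne_zero.2 one_ne_zero
    intro v
    by_cases hv : f v u = 0
    · have e2 : R1 f u v = R1 f u (v + q) - R1 f u q := LinearMap.ext fun x => by simp [add_smul]
      rw [e2]
      exact S.sub_mem (h1 _ (by rw [map_add, LinearMap.add_apply, hv, zero_add]; exact hqu)) (h1 _ hqu)
    · exact h1 v hv
  have hcol : ∀ v, R1 f v e ∈ S := by
    intro v
    obtain ⟨a', ha', ea⟩ := h.adj _ (hrow he hR v)
    have e2 : a' = -R1 f v e := LinearMap.ext fun y => sub_eq_zero.1 (h.nondeg.2 _ fun x => by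
      rw [map_sub, ← ea, R1_apply, LinearMap.neg_apply, R1_apply, map_neg, map_smul, map_smul,
        LinearMap.smul_apply, smul_eq_mul, smul_eq_mul, h.sw v x]
      ring)
    rw [e2, neg_mem_iff] at ha'
    exact ha'
  set e' := e + f p e • p
  have hee' : f e e' = -1 := by simp [e', h.alt e, hp, hpe]
  have he' : e' ≠ 0 := fun h0 => by rw [h0, map_zero, eq_comm, neg_eq_zero] at hee'; exact one_ne_zero hee'
  have hall : ∀ v z, R1 f v z ∈ S := fun v z => by
    have h2 := h.mul _ (hcol v) _ (hrow he' (hconjR hR p) z)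
    rw [show R1 f v e ∘ₗ R1 f e' z = -R1 f v z from LinearMap.ext fun x => by simp [hee', smul_smul],
      neg_mem_iff] at h2
    exact h2
  intro θ
  let b := Module.finBasis F U
  have hd : ∀ i, ∃ d, ∀ x, b.coord i x = f d x := fun i => by
    obtain ⟨d, hd⟩ := Bilin.exists_right_dual h.nondeg (b.coord i)
    exact ⟨-d, fun x => by rw [← hd, map_neg, LinearMap.neg_apply, h.sw x d, neg_neg]⟩
  choose d hd using hd
  have e3 : θ = ∑ i, R1 f (θ (b i)) (d i) := LinearMap.ext fun x => by
    rw [LinearMap.sum_apply]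
    calc θ x = θ (∑ i, b.repr x i • b i) := by rw [b.sum_repr]
      _ = _ := by
        rw [map_sum]
        exact Finset.sum_congr rfl fun i _ => by rw [R1_apply, ← hd, Module.Basis.coord_apply, map_smul]
  rw [e3]
  exact S.sum_mem fun i _ => hall _ _

/-- The case of a nonzero diagonal value. -/
theorem one_of_value (hex : (∀ x : F, x = 0 ∨ x = 1) → 4 ≤ finrank F U) {θ : U →ₗ[F] U} (hθ : θ ∈ S) {e : U}
    (hv : f e (θ e) ≠ 0) : ∃ u, u ≠ 0 ∧ R1 f u u ∈ S := by
  have he : e ≠ 0 := fun h0 => hv (by rw [h0, map_zero, LinearMap.zero_apply])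
  by_cases hF : ∀ x : F, x = 0 ∨ x = 1
  swap
  · push Not at hF
    obtain ⟨c, hc0, hc1⟩ := hF
    have h1 := S.sub_mem (S.smul_mem c⁻¹ (h.delta hθ e c)) (h.delta hθ e 1)
    rw [smul_sub, smul_smul, smul_smul, inv_mul_cancel₀ hc0, one_smul, sub_sub_sub_cancel_left, ← sub_smul,
      one_mul, one_mul, ← mul_assoc, ← mul_assoc, inv_mul_cancel₀ hc0, one_mul,
      show f e (θ e) - c * f e (θ e) = (1 - c) * f e (θ e) by ring,
      S.smul_mem_iff (mul_ne_zero (sub_ne_zero.2 (Ne.symm hc1)) hv)] at h1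
    exact ⟨e, he, h1⟩
  have hμ : f e (θ e) = 1 := (hF _).resolve_left hv
  have htwo : (1 : F) + 1 = 0 := (hF _).resolve_right fun h0 => one_ne_zero (add_eq_left.1 h0)
  have hneg : ∀ a : F, -a = a := fun a => by linear_combination -a * htwo
  have hs : ∀ u v, f v u = f u v := fun u v => by rw [h.sw u v, hneg]
  obtain ⟨θ', -, hθ'⟩ := h.adj θ hθ
  have hD := h.delta hθ e 1
  rw [one_smul, one_mul, one_mul, hμ, one_smul] at hD
  set Dm := R1 f e e ∘ₗ θ - θ ∘ₗ R1 f e e - R1 f e e
  obtain ⟨Da, hDa, hDa'⟩ := h.adj Dm hD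
  set u₀ := θ e
  have hadj : ∀ x, f e (θ x) = f (θ' e) x := fun x => by rw [hs, hθ', hs]
  have hDae : ∀ x, Da x = f e x • (θ' e + e) + f u₀ x • e := fun x => sub_eq_zero.1 (h.nondeg.2 _ fun a => by
    rw [map_sub, ← hDa', sub_eq_zero]
    simp only [Dm, LinearMap.sub_apply, LinearMap.comp_apply, R1_apply, map_sub, map_smul, LinearMap.smul_apply,
      smul_eq_mul, map_add, hadj, hs (θ' e) a, hs e a, hs u₀ x, show θ e = u₀ from rfl]
    rw [hs a e]
    linear_combination (-(f e x * f a e) - f a e * f u₀ x) * htwo)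
  -- the projection to a hyperbolic plane
  set π := R1 f e u₀ + R1 f u₀ e
  have hπ : π ∈ S := by
    convert h.mul _ hD _ hDa using 1
    refine LinearMap.ext fun x => ?_
    simp only [π, Dm, LinearMap.comp_apply, LinearMap.sub_apply, LinearMap.add_apply, R1_apply, hDae, map_add,
      map_smul, smul_eq_mul, hadj, h.alt e, h.alt (θ' e), show θ e = u₀ from rfl,
      show f e u₀ = 1 from hμ, show f e (θ' e) = 1 from by rw [← hθ', hs e (θ e)]; exact hμ,
      show f (θ' e) e = 1 from by rw [hs e (θ' e), ← hθ', hs e (θ e)]; exact hμ]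
    match_scalars
    all_goals first
      | linear_combination f e x * htwo
      | linear_combination -(f e x) * htwo
      | linear_combination (0 : F) * htwo
  have h4 := hex hF
  obtain ⟨u, hu, hue, huu⟩ : ∃ u, u ≠ 0 ∧ f e u = 0 ∧ f u₀ u = 0 := by
    obtain ⟨u, hu, hu0⟩ := Submodule.exists_mem_ne_zero_of_ne_bot (p := LinearMap.ker ((f e).prod (f u₀))) (fun e0 => by
      have h1 := LinearMap.finrank_range_add_finrank_ker ((f e).prod (f u₀))
      have h2 := Submodule.finrank_le (LinearMap.range ((f e).prod (f u₀)))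
      rw [Module.finrank_prod, Module.finrank_self] at h2
      rw [e0, finrank_bot] at h1
      omega)
    exact ⟨u, hu0, congrArg Prod.fst hu, congrArg Prod.snd hu⟩
  have hN : ∀ u, f e u = 0 → f u₀ u = 0 → R1 f e u + R1 f u e ∈ S := by
    intro u hue huu
    have h1 := h.conj e 1 _ (h.conj (e + u) 1 _ hπ)
    convert S.sub_mem h1 hπ using 1
    refine LinearMap.ext fun x => ?_
    have e1 : f u e = 0 := by rw [hs, hue]
    have e2 : f u u₀ = 0 := by rw [hs, huu]
    have e3 : f u₀ e = 1 := by rw [hs]; exact hμ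
    simp only [π, LinearMap.comp_apply, LinearMap.add_apply, LinearMap.sub_apply, LinearMap.id_apply, one_smul,
      R1_apply, map_add, map_sub, map_smul, LinearMap.smul_apply, smul_eq_mul, h.alt e, h.alt u, h.alt u₀, hue, huu,
      e1, e2, e3, show f e u₀ = 1 from hμ]
    match_scalars
    all_goals first
      | linear_combination (0 : F) * htwo
      | linear_combination (f e x) * htwo
      | linear_combination (f u x) * htwo
      | linear_combination (f u x + f e x) * htwo
  obtain ⟨u', hu'0, hu'⟩ := Bilin.exists_sep h.nondeg (U := Submodule.span F {e, u₀}) (x := u) (fun hm => hu (by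
    obtain ⟨a, b, rfl⟩ := Submodule.mem_span_pair.1 hm
    simp [h.alt e, h.alt u₀, hμ, show f e u₀ = 1 from hμ, hs e u₀] at hue huu
    simp [hue, huu]))
  have hu'e : f e u' = 0 := hu' e (Submodule.subset_span (Set.mem_insert _ _))
  have h5 := h.mul _ (hN u hue huu) _ (hN u' hu'e (hu' u₀ (Submodule.subset_span (Set.mem_insert_of_mem _ rfl))))
  refine ⟨e, he, ?_⟩
  convert h5 using 1
  refine LinearMap.ext fun x => ?_
  simp [hu'0, hu'e, hs e u, hue, h.alt e, h.alt u, smul_smul]

/-- **A non-scalar invariant algebra contains every map.** -/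
theorem all (hex : (∀ x : F, x = 0 ∨ x = 1) → 4 ≤ finrank F U) {θ₀ : U →ₗ[F] U} (hθ₀ : θ₀ ∈ S)
    (hns : ∀ c : F, θ₀ ≠ c • LinearMap.id) : ∀ θ, θ ∈ S := by
  classical
  by_cases hval : ∃ θ ∈ S, ∃ e, f e (θ e) ≠ 0
  · obtain ⟨θ, hθ, e, hv⟩ := hval
    obtain ⟨u, hu, huS⟩ := h.one_of_value hex hθ hv
    exact h.all_of_one hu huS
  push Not at hval
  exfalso
  have hself : ∀ θ ∈ S, ∀ x y, f (θ x) y = f x (θ y) := fun θ hθ x y => by
    have h1 := hval θ hθ (x + y)
    simp only [map_add, LinearMap.add_apply, hval θ hθ x, hval θ hθ y, zero_add, add_zero] at h1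
    rw [h.sw y (θ x)]
    linear_combination -h1
  have hcomm : ∀ a ∈ S, ∀ b ∈ S, ∀ x, a (b x) = b (a x) := fun a ha b hb x =>
    sub_eq_zero.1 (h.nondeg.2 _ fun z => by
      rw [map_sub, ← hself a ha, ← hself b hb (a z), ← hself b hb, ← hself a ha]
      have h1 := hself _ (h.mul b hb a ha) z x
      simp only [LinearMap.comp_apply] at h1
      rw [h1, hself a ha (b z), hself b hb z, sub_self])
  -- a nonzero subspace killed by every element of square zero
  let P : ℕ → Prop := fun n => ∃ M : Submodule F U, M ≠ ⊥ ∧ (∀ a ∈ S, ∀ m ∈ M, a m ∈ M) ∧ finrank F M = n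
  obtain ⟨e₀, he₀⟩ : ∃ e : U, e ≠ 0 := by
    by_contra! hc
    exact hns 0 (LinearMap.ext fun x => by simp [hc x])
  have hPex : ∃ n, P n := ⟨_, ⊤, fun e0 => he₀ ((Submodule.mem_bot F).1 (e0 ▸ Submodule.mem_top)),
    fun _ _ _ _ => Submodule.mem_top, rfl⟩
  obtain ⟨M, hM0, hMS, hMn⟩ := Nat.find_spec hPex
  have hkill : ∀ a ∈ S, (∀ x, a (a x) = 0) → ∀ m ∈ M, a m = 0 := by
    intro a ha hsq
    by_contra! hc
    obtain ⟨m, hm, hm0⟩ := hc
    have hlt : M ⊓ LinearMap.ker a < M := lt_of_le_of_ne inf_le_left fun e0 => hm0 (e0.ge hm).2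
    refine Nat.find_min hPex (hMn ▸ Submodule.finrank_lt_finrank_of_lt hlt) ⟨M ⊓ LinearMap.ker a, ?_, ?_, rfl⟩
    · intro e0
      have h1 : a m ∈ M ⊓ LinearMap.ker a := ⟨hMS a ha m hm, hsq m⟩
      rw [e0, Submodule.mem_bot] at h1
      exact hm0 h1
    · rintro b hb x ⟨hx1, hx2⟩
      refine ⟨hMS b hb x hx1, ?_⟩
      show a (b x) = 0
      rw [hcomm a ha b hb, show a x = 0 from hx2, map_zero]
  obtain ⟨m, hm, hm0⟩ := Submodule.exists_mem_ne_zero_of_ne_bot hM0
  have hinv : ∀ a ∈ S, (∀ x, a (a x) = 0) → ∀ x, a x = 0 := by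
    intro a ha hsq
    have h1 : ∀ v, f v m ≠ 0 → ∀ b ∈ S, (∀ x, b (b x) = 0) → b v = 0 := by
      intro v hv b hb hbsq
      have hb' := h.conj v (-1) b hb
      have h3 := hkill _ hb' (fun x => by
        simp [h.alt v, hbsq, ← sub_eq_add_neg, hval b hb v]) m hm
      simp only [LinearMap.comp_apply, LinearMap.add_apply, LinearMap.sub_apply, LinearMap.id_apply, neg_smul,
        one_smul, LinearMap.neg_apply, R1_apply, map_add, map_neg, sub_neg_eq_add, map_smul, hkill b hb hbsq m hm,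
        smul_eq_mul, zero_add, hval b hb v, mul_zero, neg_zero, zero_smul, add_zero] at h3
      exact (smul_eq_zero.1 h3).resolve_left hv
    intro x
    obtain ⟨q, hq⟩ := h.exists_one hm0
    have hqm : f q m ≠ 0 := by rw [h.sw m q, hq]; exact neg_ne_zero.2 one_ne_zero
    by_cases hx : f x m = 0
    · have h3 := h1 (x + q) (by rw [map_add, LinearMap.add_apply, hx, zero_add]; exact hqm) a ha hsq
      rw [map_add, h1 q hqm a ha hsq, add_zero] at h3
      exact h3
    · exact h1 x hx a ha hsq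
  have heig : ∀ e, ∃ c : F, θ₀ e = c • e := by
    intro e
    by_cases he : e = 0
    · exact ⟨0, by simp [he]⟩
    have hD : R1 f e e ∘ₗ θ₀ - θ₀ ∘ₗ R1 f e e ∈ S := by
      have h1 := h.delta hθ₀ e 1
      rwa [hval θ₀ hθ₀ e, mul_zero, zero_smul, sub_zero, one_smul] at h1
    have h2 := hval _ (h.mul _ hθ₀ _ hθ₀) e
    obtain ⟨x, hx⟩ := h.exists_one he
    have h3 := hinv _ hD (fun y => by
      simp only [LinearMap.sub_apply, LinearMap.comp_apply, R1_apply, map_sub, map_smul, h.alt e, hval θ₀ hθ₀ e,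
        show f e (θ₀ (θ₀ e)) = 0 from h2, smul_eq_mul, mul_zero, sub_zero, zero_smul, sub_self, map_zero, smul_zero]) x
    simp [hx, sub_eq_zero] at h3
    exact ⟨_, h3.symm⟩
  obtain ⟨c, hc⟩ := scalar_of_eigen heig
  exact hns c hc

end InvAlg

end CfsgLib.Geo.SympTensor
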