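/-
A non-scalar coefficient gives every Eichler transformation.
-/
import Cfsg.Agent.Lib.Geo.SympTensor.Roots
import Cfsg.Agent.Lib.Geo.SympTensor.Algebra

set_option autoImplicit false
set_option linter.unusedSectionVars false

namespace CfsgLib.Geo.SympTensor

open CfsgLib.Classical CfsgLib.Classical.Quad CfsgLib.Geo.OrthMax Module
open QuadraticMap (polar polarBilin)
open LinearMap (BilinForm)

variable {F : Type*} [Field F] [Finite F] {U W V : Type*} [AddCommGroup U] [Module F U] [FiniteDimensional F U]
  [AddCommGroup W] [Module F W] [FiniteDimensional F W] [AddCommGroup V] [Module F V] [FiniteDimensional F V]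
  {Q : QuadraticForm F V} {f : BilinForm F U} {g : BilinForm F W} {T : U →ₗ[F] W →ₗ[F] V}
  {K : Subgroup (OQ Q)}

namespace Data

variable (D : Data Q f g T)
include D

theorem eich_eq {a b : U} {w r : W} (h : polar Q (T a w) (T b r) = 0) (v : V) :
    (eich D.hQ (D.pure a w) h : V ≃ₗ[F] V) v = D.sh w r (R1 f a b) v := by
  rw [eich_apply, D.pure, zero_mul, sub_zero, D.sh_apply,
    show D.adj (R1 f a b) = -R1 f b a from D.adj_rank_one a b]
  simp [R1, D.f_C, QuadraticMap.polar_comm Q v]

end Data

namespace Over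

variable {D : Data Q f g T} (O : Over D K)
include O

/-- The coefficients form an invariant algebra. -/
theorem invAlg : InvAlg f
    { carrier := {θ | InT D K θ}
      add_mem' := O.inT_add
      zero_mem' := fun w r h => by rw [D.sh_zero]; exact mem_id
      smul_mem' := fun c θ h => O.inT_smul c h : Submodule F (U →ₗ[F] U) } where
  nondeg := D.hf
  alt := D.hfA
  one := O.inT_id
  mul a ha b hb := O.inT_comp ha hb
  adj a ha := ⟨D.adj a, O.inT_adj ha, D.adj_right a⟩
  conj e c a ha := O.inT_conj ha e c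

theorem has_of_inT (hall : ∀ θ, InT D K θ) {a b : U} {w r : W} (hwr : g w r = 0) :
    Has D.hQ K (T a w) (T b r) := fun _ hp => by
  obtain ⟨k, hk, ek⟩ := hall (R1 f a b) w r hwr
  rwa [Subtype.ext (LinearEquiv.ext fun v => (D.eich_eq hp v).trans (ek v).symm)]

/-- The whole root group of a pure tensor. -/
theorem hasRoot_pure (hall : ∀ θ, InT D K θ) {a : U} (ha : a ≠ 0) {w : W} (hw : w ≠ 0) :
    HasRoot D.hQ K (T a w) := by
  classical
  obtain ⟨w'', hw'', -⟩ := D.exists_dual (S := ⊥) (r := w) (by simpa using hw)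
  obtain ⟨p, hp⟩ : ∃ p : U → U, ∀ b, b ≠ 0 → f (p b) b = 1 := by
    refine ⟨fun b => if h : ∃ x, f x b = 1 then h.choose else 0, fun b hb => ?_⟩
    have h : ∃ x, f x b = 1 := by
      obtain ⟨x, hx, -⟩ := Bilin.exists_sep D.hf (U := ⊥) (x := b) (by simpa using hb)
      exact ⟨-x, by rw [map_neg, LinearMap.neg_apply, Symp.swap D.hfA b x, neg_neg, hx]⟩
    simp only [dif_pos h]
    exact h.choose_spec
  -- the opposite line
  have hopp : ∀ b, f a b = 0 → Has D.hQ K (T a w) (T b w'') := by
    intro b hab
    by_cases hb : b = 0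
    · intro hu hy
      rw [eich_congr D.hQ rfl (show T b w'' = 0 by simp [hb]), eich_zero_right]
      exact K.one_mem
    obtain ⟨r, hr, hr1, -⟩ := D.exists_two_avoid {w, w''} (Finset.card_le_two.trans (by norm_num))
      (D.finrank_pair_le w w'') (D.finrank_pair_le w w'')
    obtain ⟨r', hrr', hr'⟩ := D.exists_dual hr1
    have hwr : g w r = 0 := hr w (by simp)
    have hw''r : g w'' r = 0 := hr w'' (by simp)
    have hwr' : g w r' = 0 := hr' w (Submodule.subset_span (Set.mem_insert _ _))
    have hw''r' : g w'' r' = 0 := hr' w'' (Submodule.subset_span (Set.mem_insert_of_mem _ rfl))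
    obtain ⟨k, hk, ek⟩ := hall (R1 f b (p b)) w'' r' hw''r'
    have e1 : (k : V ≃ₗ[F] V) (T a w) = T a w := by
      rw [ek, D.sh_pure, Symp.swap D.hgA w r', hwr', show D.adj (R1 f b (p b)) = -R1 f (p b) b from D.adj_rank_one _ _]
      simp [Symp.swap D.hfA a b, hab]
    have e2 : (k : V ≃ₗ[F] V) (T b r) = T b r + -T b w'' := by
      rw [ek, D.sh_pure, Symp.swap D.hgA r r', hrr', hw''r]
      simp
      rw [hp b hb, one_smul]
    have h1 := (O.has_of_inT hall (a := a) (b := b) hwr).conj D.hQ hk
    rw [e1, e2] at h1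
    have h2 := h1.add D.hQ (O.has_of_inT hall (a := a) (b := -b) hwr) (by
      rw [polar_add_right', QuadraticMap.polar_neg_right, D.polarT, D.polarT, hwr, hab]; ring)
    rw [map_neg, LinearMap.neg_apply, show T b r + -T b w'' + -T b r = -T b w'' by abel] at h2
    intro hu hy
    have h4 := K.inv_mem (h2 hu (by rw [QuadraticMap.polar_neg_right, hy, neg_zero]))
    rw [eich_inv, eich_congr D.hQ rfl (neg_neg (T b w''))] at h4
    exact h4
  -- the projection to the orthogonal of the line
  let π : W →ₗ[F] W := LinearMap.id - (g w).smulRight w''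
  have hπ : ∀ y, g w (π y) = 0 := fun y => by simp [π, hw'']
  let Pr : V →ₗ[F] V := LinearMap.id - T.flip w'' ∘ₗ D.C w
  have hPr : ∀ x y, Pr (T x y) = T x (π y) := fun x y => by simp [Pr, π, D.C_T]
  have hperp : ∀ x, polar Q (T a w) (Pr x) = f a (D.C w x) - f a (D.C w x) := fun x => by
    simp only [Pr, LinearMap.sub_apply, LinearMap.id_apply, LinearMap.comp_apply, LinearMap.flip_apply,
      QuadraticMap.polar_sub_right, D.polarT, hw'', D.f_C]
    ring
  have hPrall : ∀ x (c : F), Has D.hQ K (T a w) (c • Pr x) := by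
    intro x
    induction (D.span ▸ Submodule.mem_top : x ∈ Submodule.span F (Set.range fun p : U × W => T p.1 p.2))
      using Submodule.span_induction with
    | mem z hz =>
      obtain ⟨⟨b, y⟩, rfl⟩ := hz
      intro c
      rw [hPr, ← LinearMap.smul_apply, ← map_smul]
      exact O.has_of_inT hall (hπ y)
    | zero =>
      intro c hu hy
      rw [eich_congr D.hQ rfl (show c • Pr 0 = (0 : V) by simp), eich_zero_right]
      exact K.one_mem
    | add x y _ _ hx hy =>
      intro c
      rw [map_add, smul_add]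
      exact (hx c).add D.hQ (hy c) (by rw [polar_smul_right', hperp, sub_self, mul_zero])
    | smul d x _ hx =>
      intro c
      rw [map_smul, smul_smul]
      exact hx (c * d)
  intro x hu hx
  have hfx : f a (D.C w x) = 0 := by rw [D.f_C]; exact hx
  have e : x = (1 : F) • Pr x + T (D.C w x) w'' := by simp [Pr]
  rw [eich_congr D.hQ rfl e]
  exact ((hPrall x 1).add D.hQ (hopp _ hfx) (by rw [polar_smul_right', hperp, sub_self, mul_zero])) _ _

/-- Root groups at two opposite points give the whole group. -/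
theorem eichGroup_le_of_two {u u' : V} (hu : Q u = 0) (hu' : Q u' = 0) (huu : polar Q u u' = 1)
    (hr : HasRoot D.hQ K u) (hr' : HasRoot D.hQ K u') : eichGroup D.hQ ≤ K := by
  have hn := D.five
  have step : ∀ v, Q v = 0 → polar Q u v = 1 → HasRoot D.hQ K v := by
    intro v hv huv
    have ha : polar Q u (u' - v) = 0 := by rw [QuadraticMap.polar_sub_right, huu, huv, sub_self]
    have e : (eich D.hQ hu ha : V ≃ₗ[F] V) u' = v := by
      have e2 : Q (u' - v) = -polar Q u' v := by
        rw [sub_eq_add_neg, apply_add, QuadraticMap.map_neg, QuadraticMap.polar_neg_right, hu', hv]; ring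
      rw [eich_apply, QuadraticMap.polar_sub_right, polar_self', hu', e2, QuadraticMap.polar_comm Q u' u, huu]
      module
    rw [← e]
    exact hr'.conj D.hQ (hr _ hu ha)
  have step' : ∀ v, Q v = 0 → polar Q u v ≠ 0 → HasRoot D.hQ K v := fun v hv h => by
    refine HasRoot.of_smul D.hQ (inv_ne_zero h) (step _ ?_ ?_)
    · rw [apply_smul, hv, mul_zero]
    · rw [polar_smul_right', inv_mul_cancel₀ h]
  refine le_of_has D.hQ hn fun w x hw _ _ => ?_
  suffices HasRoot D.hQ K w from this x
  by_cases hw0 : w = 0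
  · intro a hw ha
    rw [eich_congr D.hQ hw0 (rfl : a = a), eich_zero_left]
    exact K.one_mem
  by_cases h : polar Q u w = 0
  swap
  · exact step' w hw h
  by_cases hli : LinearIndependent F ![u, w]
  · obtain ⟨z, hz, hzu, hzw⟩ := exists_common_partner D.hQ hn hu hw hli
    have hz' : HasRoot D.hQ K z := step z hz (by rw [QuadraticMap.polar_comm, hzu])
    -- move along the root group of `z`
    have ha : polar Q z (u - w) = 0 := by rw [QuadraticMap.polar_sub_right, hzu, hzw, sub_self]
    have e : (eich D.hQ hz ha : V ≃ₗ[F] V) u = w := by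
      have e2 : Q (u - w) = 0 := by
        rw [sub_eq_add_neg, apply_add, QuadraticMap.map_neg, QuadraticMap.polar_neg_right, hu, hw, h]; ring
      rw [eich_apply, QuadraticMap.polar_sub_right, polar_self', hu, e2, h, QuadraticMap.polar_comm Q u z, hzu]
      module
    rw [← e]
    exact hr.conj D.hQ (hz' _ hz ha)
  · have hu0 : u ≠ 0 := fun e => by simp [e] at huu
    rw [linearIndependent_fin2] at hli
    simp only [Matrix.cons_val_one, Matrix.cons_val_zero, ne_eq, hw0, not_false_eq_true, true_and, not_forall,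
      not_not] at hli
    obtain ⟨c, hc⟩ := hli
    have hc0 : c ≠ 0 := fun e => hu0 (by rw [← hc, e, zero_smul])
    exact HasRoot.of_smul D.hQ hc0 (hc.symm ▸ hr)

theorem eichGroup_le (hex : (∀ x : F, x = 0 ∨ x = 1) → 4 ≤ finrank F U) (hG : Good D K) :
    eichGroup D.hQ ≤ K := by
  obtain ⟨θ₀, hθ₀, hns⟩ := hG
  have hall : ∀ θ, InT D K θ := fun θ => O.invAlg.all hex hθ₀ hns θ
  have : Nontrivial U := Module.nontrivial_of_finrank_pos (R := F) (by have := D.two; omega)
  obtain ⟨a, ha⟩ := exists_ne (0 : U)
  obtain ⟨a', haa, -⟩ := Bilin.exists_sep D.hf (U := ⊥) (x := a) (by simpa using ha)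
  have ha' : a' ≠ 0 := fun e => by rw [e, map_zero] at haa; exact zero_ne_one haa
  obtain ⟨w, r, hw, -, -⟩ := O.exists_pair
  obtain ⟨w', hw', -⟩ := D.exists_dual (S := ⊥) (r := w) (by simpa using hw)
  have hw'0 : w' ≠ 0 := fun e => by rw [e, map_zero] at hw'; exact zero_ne_one hw'
  exact O.eichGroup_le_of_two (D.pure a w) (D.pure a' w') (by rw [D.polarT, haa, hw', one_mul])
    (O.hasRoot_pure hall ha hw) (O.hasRoot_pure hall ha' hw'0)

end Over

end CfsgLib.Geo.SympTensor
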