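/-
Without a non-scalar coefficient every element of the overgroup is a Kronecker product.
-/
import Cfsg.Agent.Lib.Geo.SympTensor.Line

set_option autoImplicit false
set_option linter.unusedSectionVars false

namespace CfsgLib.Geo.SympTensor

open CfsgLib.Classical CfsgLib.Classical.Quad CfsgLib.Geo.OrthMax Module
open QuadraticMap (polar polarBilin)
open LinearMap (BilinForm)

variable {F : Type*} [Field F] {U W V : Type*} [AddCommGroup U] [Module F U] [FiniteDimensional F U]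
  [AddCommGroup W] [Module F W] [FiniteDimensional F W] [AddCommGroup V] [Module F V] [FiniteDimensional F V]
  {Q : QuadraticForm F V} {f : BilinForm F U} {g : BilinForm F W} {T : U →ₗ[F] W →ₗ[F] V}
  {D : Data Q f g T} {K : Subgroup (OQ Q)}

theorem Kr.mul {k k' : OQ Q} (h : Kr T k) (h' : Kr T k') : Kr T (k * k') := by
  obtain ⟨A, hA⟩ := h
  obtain ⟨A', hA'⟩ := h'
  refine ⟨A ∘ₗ A', fun y => ?_⟩
  obtain ⟨r', hr'⟩ := hA' y
  obtain ⟨r, hr⟩ := hA r'
  exact ⟨r, fun a => by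
    show (k : V ≃ₗ[F] V) ((k' : V ≃ₗ[F] V) (T a y)) = _
    rw [hr', hr, LinearMap.comp_apply]⟩

namespace Over

variable (O : Over D K)
include O

theorem nontrivial : ∃ a : U, a ≠ 0 := by
  have : Nontrivial U := Module.nontrivial_of_finrank_pos (R := F) (by have := D.two; omega)
  exact exists_ne 0

theorem kr_inv {k : OQ Q} (h : Kr T k) : Kr T k⁻¹ := by
  obtain ⟨A, hA⟩ := h
  choose R hR using hA
  obtain ⟨a₀, ha₀⟩ := O.nontrivial
  obtain ⟨w, -, hw, -⟩ := D.exists_two_avoid ∅ (by simp) (A := (⊥ : Submodule F W)) (B := ⊥) (by simp) (by simp)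
  have hw0 : w ≠ 0 := fun e => hw (by simp [e])
  have hAinj : Function.Injective A := fun a b e =>
    D.T_injective hw0 ((k : V ≃ₗ[F] V).injective (by rw [hR, hR, e]))
  let Ae := LinearEquiv.ofBijective A ⟨hAinj, LinearMap.injective_iff_surjective.1 hAinj⟩
  have hRlin : IsLinearMap F R := by
    have key : ∀ p q, (∀ a, T (A a) p = T (A a) q) → p = q := fun p q h => by
      by_contra hne
      exact ha₀ (hAinj ((D.T_eq_zero (sub_ne_zero.2 hne) (a := A a₀) (by rw [map_sub, h, sub_self])).trans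
        (map_zero A).symm))
    refine ⟨fun p q => key _ _ fun a => ?_, fun c p => key _ _ fun a => ?_⟩
    · rw [← hR, map_add, map_add, hR, hR, map_add]
    · rw [← hR, map_smul, map_smul, hR, map_smul]
  let B := IsLinearMap.mk' R hRlin
  have hBinj : Function.Injective B := (injective_iff_map_eq_zero B).2 fun y hy => by
    by_contra hy0
    refine ha₀ (D.T_eq_zero hy0 ((k : V ≃ₗ[F] V).injective ?_))
    rw [hR, show R y = 0 from hy, map_zero, map_zero]
  let Be := LinearEquiv.ofBijective B ⟨hBinj, LinearMap.injective_iff_surjective.1 hBinj⟩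
  refine ⟨Ae.symm, fun y => ⟨Be.symm y, fun a => ?_⟩⟩
  show (k : V ≃ₗ[F] V).symm (T a y) = _
  rw [LinearEquiv.symm_apply_eq, hR]
  congr 1
  · congr 1
    exact (Ae.apply_symm_apply a).symm
  · exact (Be.apply_symm_apply y).symm

/-- A conjugate of a transvection which is a Kronecker product comes from a Kronecker product. -/
theorem kr_of_trz (hG : ¬ Good D K) {h u : OQ Q} (hh : h ∈ K) {z : W} (hz : z ≠ 0) {c : F} (hc : c ≠ 0)
    (eu : ∀ v, (u : V ≃ₗ[F] V) v = D.trz z c v) (hk : Kr T (h * u * h⁻¹)) : Kr T h := by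
  obtain ⟨A, hA⟩ := hk
  choose R hR using hA
  set hm : V →ₗ[F] V := ((h : V ≃ₗ[F] V) : V →ₗ[F] V)
  set η : V →ₗ[F] V := c • (hm ∘ₗ T.flip z ∘ₗ D.C z ∘ₗ (h : V ≃ₗ[F] V).symm.toLinearMap)
  have hη : ∀ a y, η (T a y) = T (A a) (R y) - T a y := fun a y => by
    rw [← hR, eq_sub_iff_add_eq, show ((h * u * h⁻¹ : OQ Q) : V ≃ₗ[F] V) (T a y) =
      (h : V ≃ₗ[F] V) ((u : V ≃ₗ[F] V) ((h : V ≃ₗ[F] V).symm (T a y))) from rfl, eu, D.trz_apply, map_add,
      LinearEquiv.apply_symm_apply]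
    simp [η, hm]
    abel
  set L : U →ₗ[F] V := hm ∘ₗ T.flip z
  have hrange : LinearMap.range η ≤ LinearMap.range L := by
    rintro _ ⟨v, rfl⟩
    exact ⟨c • D.C z ((h : V ≃ₗ[F] V).symm v), by simp [η, L]⟩
  obtain ⟨ν, hν⟩ : ∃ ν : F, A = ν • LinearMap.id := scalar_of_eigen fun a₀ => by
    by_contra hne
    push Not at hne
    have hinj : Function.Injective (η ∘ₗ T a₀) := (injective_iff_map_eq_zero _).2 fun y hy => by
      rw [LinearMap.comp_apply, hη, sub_eq_zero] at hy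
      refine D.hg.2 _ fun z' => ?_
      have h1 := congrArg (D.C z') hy
      rw [D.C_T, D.C_T] at h1
      by_contra hgz
      by_cases hgr : g z' (R y) = 0
      · rw [hgr, zero_smul] at h1
        rw [(smul_eq_zero.1 h1.symm).resolve_left hgz, map_zero] at hne
        exact hne 0 (by simp)
      · refine hne ((g z' (R y))⁻¹ * g z' y) ?_
        rw [mul_smul, ← h1, inv_smul_smul₀ hgr]
    have h1 := LinearMap.finrank_range_of_inj hinj
    have h2 := Submodule.finrank_mono (le_trans (LinearMap.range_comp_le_range (T a₀) η) hrange)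
    have h3 := LinearMap.finrank_range_le L
    have := D.lt
    omega
  obtain ⟨a₁, ha₁⟩ := O.nontrivial
  obtain ⟨y, hy⟩ : ∃ y, ν • R y - y ≠ 0 := by
    by_contra! hall
    have hη0 : η = 0 := D.hom_ext fun a y => by
      rw [hη, hν, LinearMap.smul_apply, LinearMap.id_apply, map_smul, LinearMap.smul_apply,
        ← map_smul, ← map_sub, hall, map_zero, LinearMap.zero_apply]
    obtain ⟨z', hz', -⟩ := D.exists_dual (S := ⊥) (r := z) (by simpa using hz)
    have h1 := LinearMap.congr_fun hη0 ((h : V ≃ₗ[F] V) (T a₁ z'))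
    simp [η, hm, D.C_T, hz', hc] at h1
    exact ha₁ (D.T_eq_zero hz h1)
  set d := ν • R y - y
  have hmem : LinearMap.range (T.flip d) ≤ LinearMap.range L := by
    rintro _ ⟨a, rfl⟩
    refine hrange ⟨T a y, ?_⟩
    rw [hη, hν, LinearMap.smul_apply, LinearMap.id_apply, map_smul, LinearMap.smul_apply]
    simp [d]
  have heq := Submodule.eq_of_le_of_finrank_le hmem ((LinearMap.finrank_range_le L).trans
    (LinearMap.finrank_range_of_inj (f := T.flip d) fun a b e => D.T_injective hy e).ge)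
  obtain ⟨d', hd'⟩ : ∃ d', g d' d = 1 := by
    obtain ⟨d', hd', -⟩ := D.exists_dual (S := ⊥) (r := d) (by simpa using hy)
    exact ⟨-d', by rw [map_neg, LinearMap.neg_apply, Symp.swap D.hgA d d', hd', neg_neg]⟩
  refine O.line_kr hG hh hz (w' := d) (A₀ := D.C d' ∘ₗ L) fun a => ?_
  obtain ⟨b, hb⟩ := heq.ge ⟨a, rfl⟩
  have hb' : T b d = L a := hb
  show L a = T (D.C d' (L a)) d
  rw [← hb', D.C_T, hd', one_smul]

theorem kr_of_not_good (hG : ¬ Good D K) {h : OQ Q} (hh : h ∈ K) : Kr T h := by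
  classical
  by_contra hnk
  obtain ⟨w₀, -, hw₀, -⟩ := D.exists_two_avoid ∅ (by simp) (A := (⊥ : Submodule F W)) (B := ⊥) (by simp) (by simp)
  replace hw₀ : w₀ ≠ 0 := fun e => hw₀ (by simp [e])
  -- the degenerate part of a pairing
  let P : OQ Q → W → W → Submodule F U := fun k v w =>
    LinearMap.ker (D.C w ∘ₗ ((k : V ≃ₗ[F] V) : V →ₗ[F] V) ∘ₗ T.flip v)
  have hP : ∀ k v w a, a ∈ P k v w ↔ D.C w ((k : V ≃ₗ[F] V) (T a v)) = 0 := fun k v w a => Iff.rfl
  let S : Set ℕ := {j | ∃ k v w, k ∈ K ∧ ¬ Kr T k ∧ v ≠ 0 ∧ w ≠ 0 ∧ finrank F (P k v w) = j}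
  have hbd : ∀ j ∈ S, j ≤ finrank F U := by
    rintro j ⟨k, v, w, -, -, -, -, rfl⟩
    exact Submodule.finrank_le _
  have hne : S.Nonempty := ⟨_, h, w₀, w₀, hh, hnk, hw₀, hw₀, rfl⟩
  obtain ⟨k₀, v, w, hk₀, hnk₀, hv, hw, hd⟩ := Nat.sSup_mem hne ⟨_, hbd⟩
  have hmax : ∀ k v' w', k ∈ K → ¬ Kr T k → v' ≠ 0 → w' ≠ 0 → finrank F (P k v' w') ≤ finrank F (P k₀ v w) :=
    fun k v' w' h1 h2 h3 h4 => hd.symm ▸ le_csSup ⟨_, hbd⟩ ⟨k, v', w', h1, h2, h3, h4, rfl⟩
  -- the pairing is not zero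
  obtain ⟨u₀, hu₀⟩ : ∃ u₀, u₀ ∉ P k₀ v w := by
    by_contra! htop
    obtain ⟨u, hu, eu⟩ := O.trz_mem v 1
    refine hnk₀ (O.kr_of_trz hG hk₀ hv one_ne_zero eu (O.line_kr hG (K.mul_mem (K.mul_mem hk₀ hu) (K.inv_mem hk₀))
      hw (w' := w) (A₀ := LinearMap.id) fun a => ?_))
    have hC : D.C v ((k₀ : V ≃ₗ[F] V).symm (T a w)) = 0 := D.fext fun b => by
      rw [D.f_C, ← OQ.map_polar k₀, LinearEquiv.apply_symm_apply, QuadraticMap.polar_comm, ← D.f_C,
        (hP _ _ _ _).1 (htop b), map_zero, map_zero]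
    show (k₀ : V ≃ₗ[F] V) ((u : V ≃ₗ[F] V) ((k₀ : V ≃ₗ[F] V).symm (T a w))) = _
    rw [eu, D.trz_apply, hC, map_zero, LinearMap.zero_apply, smul_zero, add_zero, LinearEquiv.apply_symm_apply,
      LinearMap.id_apply]
  -- translate the pairing into one line
  obtain ⟨uw, huw, euw⟩ := O.trz_mem w 1
  set k := k₀⁻¹ * uw * k₀
  have hk : k ∈ K := K.mul_mem (K.mul_mem (K.inv_mem hk₀) huw) hk₀
  have hnk1 : ¬ Kr T k := fun e => hnk₀ (by
    simpa using O.kr_inv (O.kr_of_trz hG (K.inv_mem hk₀) hw one_ne_zero euw (by rwa [inv_inv])))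
  have hfix : ∀ a ∈ P k₀ v w, (k : V ≃ₗ[F] V) (T a v) = T a v := fun a ha => by
    show (k₀ : V ≃ₗ[F] V).symm ((uw : V ≃ₗ[F] V) ((k₀ : V ≃ₗ[F] V) (T a v))) = _
    rw [euw, D.trz_apply, (hP _ _ _ _).1 ha, map_zero, LinearMap.zero_apply, smul_zero, add_zero,
      LinearEquiv.symm_apply_apply]
  -- a transvection fixing one more vector
  set L : LinearMap.ker (g v) →ₗ[F] U :=
    D.C.flip ((k : V ≃ₗ[F] V) (T u₀ v)) ∘ₗ (LinearMap.ker (g v)).subtype
  obtain ⟨⟨z, hzv⟩, hzL, hz0⟩ := Submodule.exists_mem_ne_zero_of_ne_bot (p := LinearMap.ker L) (fun e => by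
    have h1 := LinearMap.finrank_range_add_finrank_ker (g v)
    have h2 : finrank F (LinearMap.range (g v)) ≤ 1 := (Submodule.finrank_le _).trans_eq (Module.finrank_self F)
    have h3 := LinearMap.finrank_range_add_finrank_ker L
    rw [e, finrank_bot] at h3
    have h4 := Submodule.finrank_le (LinearMap.range L)
    have := D.lt
    omega)
  replace hz0 : z ≠ 0 := fun e => hz0 (Subtype.ext e)
  have hCz : D.C z ((k : V ≃ₗ[F] V) (T u₀ v)) = 0 := LinearMap.mem_ker.1 hzL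
  have hgzv : g z v = 0 := by rw [Symp.swap D.hgA, LinearMap.mem_ker.1 hzv, neg_zero]
  obtain ⟨s, hs, es⟩ := O.trz_mem z 1
  set k₂ := k⁻¹ * s * k
  have hk₂ : k₂ ∈ K := K.mul_mem (K.mul_mem (K.inv_mem hk) hs) hk
  have hnk₂ : ¬ Kr T k₂ := fun e => hnk1 (by
    simpa using O.kr_inv (O.kr_of_trz hG (K.inv_mem hk) hz0 one_ne_zero es (by rwa [inv_inv])))
  have hfix₂ : ∀ x, D.C z ((k : V ≃ₗ[F] V) x) = 0 → (k₂ : V ≃ₗ[F] V) x = x := fun x hx => by
    show (k : V ≃ₗ[F] V).symm ((s : V ≃ₗ[F] V) ((k : V ≃ₗ[F] V) x)) = _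
    rw [es, D.trz_apply, hx, map_zero, LinearMap.zero_apply, smul_zero, add_zero, LinearEquiv.symm_apply_apply]
  have hsub : P k₀ v w ⊔ Submodule.span F {u₀} ≤ P k₂ v v := by
    refine sup_le (fun a ha => ?_) ((Submodule.span_singleton_le_iff_mem _ _).2 ?_)
    · rw [hP, hfix₂ _ (by rw [hfix a ha, D.C_T, hgzv, zero_smul]), D.C_T, D.hgA v, zero_smul]
    · rw [hP, hfix₂ _ hCz, D.C_T, D.hgA v, zero_smul]
  have hlt : P k₀ v w < P k₀ v w ⊔ Submodule.span F {u₀} :=
    lt_of_le_of_ne le_sup_left fun e => hu₀ (e.symm ▸ Submodule.mem_sup_right (Submodule.mem_span_singleton_self u₀))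
  have h5 := Submodule.finrank_lt_finrank_of_lt hlt
  have h6 := Submodule.finrank_mono hsub
  have h7 := hmax k₂ v v hk₂ hnk₂ hv hv
  omega

end Over

end CfsgLib.Geo.SympTensor
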