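/-
Elements of the tensor product of two symplectic groups inside the Eichler group.
-/
import Cfsg.Agent.Lib.Geo.SympTensor.Search
import Cfsg.Agent.Lib.Geo.SympTensor.Full

set_option autoImplicit false
set_option linter.unusedSectionVars false

namespace CfsgLib.Geo.SympTensor

open CfsgLib.Classical CfsgLib.Classical.Quad CfsgLib.Geo.OrthMax Module
open QuadraticMap (polar polarBilin)
open LinearMap (BilinForm)

variable {F : Type*} [Field F] [Finite F] {U W V : Type*} [AddCommGroup U] [Module F U] [FiniteDimensional F U]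
  [AddCommGroup W] [Module F W] [FiniteDimensional F W] [AddCommGroup V] [Module F V] [FiniteDimensional F V]
  {Q : QuadraticForm F V} {f : BilinForm F U} {g : BilinForm F W} {T : U →ₗ[F] W →ₗ[F] V}

/-- The expansion of a vector in a symplectic system. -/
theorem symp_expand {M : Type*} [AddCommGroup M] [Module F M] [FiniteDimensional F M] {B : BilinForm F M}
    (hB : B.Nondegenerate) (hA : B.IsAlt) :
    ∃ (m : ℕ) (a b : Fin m → M), ∀ y, ∑ i, (B y (b i) • a i - B y (a i) • b i) = y := by
  obtain ⟨m, v, hv, hm⟩ := Symp.exists_sympSys hA hB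
  refine ⟨m, fun i => v (.inl i), fun i => v (.inr i), fun y => sub_eq_zero.1 (hB.1 _ ?_)⟩
  set d := ∑ i, (B y (v (.inr i)) • v (.inl i) - B y (v (.inl i)) • v (.inr i)) - y
  obtain ⟨h1, h2, h3⟩ := hv
  have hk : ∀ k, B d (v k) = 0 := by
    intro k
    have hrl : ∀ i j, B (v (.inr i)) (v (.inl j)) = if j = i then -1 else 0 := fun i j => by
      rw [Symp.swap hA (v (.inl j)) (v (.inr i)), h1]; split_ifs <;> simp
    rcases k with j | j <;>
      simp [d, map_sum, map_sub, h1, h2, h3, hrl]
  have hspan : Submodule.span F (Set.range v) = ⊤ :=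
    (Symp.IsSympSys.linearIndependent hA ⟨h1, h2, h3⟩).span_eq_top_of_card_eq_finrank'
      (by rw [Fintype.card_sum, Fintype.card_fin, hm]; omega)
  intro z
  exact LinearMap.congr_fun (LinearMap.ext_on_range hspan fun k => (hk k).trans rfl : B d = 0) z

namespace Data

variable (D : Data Q f g T)
include D

theorem mem_sh {w r : W} (hwr : g w r = 0) (θ : U →ₗ[F] U) : Mem (eichGroup D.hQ) (D.sh w r θ) := by
  classical
  have key : ∀ {ι' : Type} (s : Finset ι') (a b : ι' → U),
      Mem (eichGroup D.hQ) (D.sh w r (∑ i ∈ s, R1 f (a i) (b i))) := by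
    intro ι' s a b
    induction s using Finset.induction with
    | empty => rw [Finset.sum_empty, D.sh_zero]; exact mem_id
    | insert i s hi ih =>
      rw [Finset.sum_insert hi, ← D.sh_add hwr]
      refine Mem.comp ⟨_, eich_mem D.hQ D.five (D.pure (a i) w) (a := T (b i) r) (by rw [D.polarT, hwr, mul_zero]),
        D.eich_eq _⟩ ih
  let b := Module.finBasis F U
  have hd : ∀ i, ∃ d, ∀ x, b.coord i x = f d x := fun i => by
    obtain ⟨d, hd⟩ := Bilin.exists_right_dual D.hf (b.coord i)
    exact ⟨-d, fun x => by rw [← hd, map_neg, LinearMap.neg_apply, Symp.swap D.hfA x d, neg_neg]⟩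
  choose d hd using hd
  convert key Finset.univ (fun i => θ (b i)) d
  refine LinearMap.ext fun x => ?_
  rw [LinearMap.sum_apply]
  calc θ x = θ (∑ i, b.repr x i • b i) := by rw [b.sum_repr]
    _ = _ := by
      rw [map_sum]
      exact Finset.sum_congr rfl fun i _ => by rw [R1_apply, ← hd, Module.Basis.coord_apply, map_smul]

theorem mem_trz (z : W) (c : F) : Mem (eichGroup D.hQ) (D.trz z c) := by
  obtain ⟨m, a, b, hexp⟩ := symp_expand D.hf D.hfA
  set θ := ∑ i, (-c) • R1 f (a i) (b i)
  have hadj : ∀ s : Finset (Fin m), D.adj (∑ i ∈ s, (-c) • R1 f (a i) (b i)) = ∑ i ∈ s, c • R1 f (b i) (a i) := by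
    classical
    intro s
    induction s using Finset.induction with
    | empty => simp [D.adj_zero]
    | insert i s hi ih =>
      rw [Finset.sum_insert hi, Finset.sum_insert hi, D.adj_add, ih, D.adj_smul,
        show D.adj (R1 f (a i) (b i)) = -R1 f (b i) (a i) from D.adj_rank_one _ _, smul_neg, neg_smul, neg_neg]
  obtain ⟨k, hk, ek⟩ := D.mem_sh (w := z) (r := z) (D.hgA z) θ
  refine ⟨k, hk, fun v => ?_⟩
  rw [ek, D.sh_apply, D.trz_apply, hadj Finset.univ, add_assoc, ← LinearMap.add_apply, ← map_add]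
  congr 1
  rw [← LinearMap.smul_apply, ← map_smul]
  congr 2
  simp only [θ, LinearMap.sum_apply, LinearMap.smul_apply, R1_apply, ← Finset.sum_add_distrib]
  conv_rhs => rw [← hexp (D.C z v), Finset.smul_sum]
  refine Finset.sum_congr rfl fun i _ => ?_
  rw [Symp.swap D.hfA (D.C z v) (b i), Symp.swap D.hfA (D.C z v) (a i)]
  module

theorem mem_left (e : U) (c : F) : ∃ k ∈ eichGroup D.hQ, ∀ x y,
    (k : V ≃ₗ[F] V) (T x y) = T (x + (c * f e x) • e) y := by
  classical
  obtain ⟨m, a, b, hexp⟩ := symp_expand D.hg D.hgA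
  have key : ∀ s : Finset (Fin m), ∃ k ∈ eichGroup D.hQ, ∀ x y, (k : V ≃ₗ[F] V) (T x y) =
      T x y + (c * f e x) • T e (∑ i ∈ s, (g y (b i) • a i - g y (a i) • b i)) := by
    intro s
    induction s using Finset.induction with
    | empty => exact ⟨1, one_mem _, fun x y => by simp⟩
    | insert i s hi ih =>
      obtain ⟨k, hk, ek⟩ := ih
      have h0 : polar Q (T e (a i)) (T ((-c) • e) (b i)) = 0 := by rw [D.polarT, map_smul, D.hfA e, smul_zero, zero_mul]
      refine ⟨eich D.hQ (D.pure e (a i)) h0 * k, mul_mem (eich_mem D.hQ D.five _ _) hk, fun x y => ?_⟩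
      show (eich D.hQ (D.pure e (a i)) h0 : V ≃ₗ[F] V) ((k : V ≃ₗ[F] V) (T x y)) = _
      rw [ek, Finset.sum_insert hi, eich_apply, D.pure]
      simp only [polar_add_left', polar_smul_left', polar_smul_right', D.polarT, map_smul, LinearMap.smul_apply, map_add, map_sub,
        D.hfA e, smul_eq_mul, Symp.swap D.hfA e x]
      module
  obtain ⟨k, hk, ek⟩ := key Finset.univ
  refine ⟨k, hk, fun x y => ?_⟩
  rw [ek, hexp, map_add, LinearMap.add_apply, map_smul, LinearMap.smul_apply]

/-- An Eichler transformation which is not a Kronecker product. -/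
theorem exists_not_kr : ∃ k ∈ eichGroup D.hQ, ¬ Kr T k := by
  classical
  have : Nontrivial U := Module.nontrivial_of_finrank_pos (R := F) (by have := D.two; omega)
  obtain ⟨a, ha⟩ := exists_ne (0 : U)
  obtain ⟨x, hx⟩ : ∃ x, x ∉ Submodule.span F {a} := by
    by_contra! hc
    have h1 := Submodule.finrank_mono (s := ⊤) (t := Submodule.span F {a}) fun x _ => hc x
    rw [finrank_top, finrank_span_singleton ha] at h1
    have := D.two
    omega
  obtain ⟨b, hb, -⟩ := Bilin.exists_sep D.hf (U := ⊥) (x := x) (fun h => hx (by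
    rw [(Submodule.mem_bot F).1 h]; exact zero_mem _))
  obtain ⟨w, -, hw, -⟩ := D.exists_two_avoid ∅ (by simp) (A := (⊥ : Submodule F W)) (B := ⊥) (by simp) (by simp)
  obtain ⟨r, hr, hr1, -⟩ := D.exists_two_avoid {w} (by simp) (D.finrank_pair_le w w) (D.finrank_pair_le w w)
  have hr2 : r ∉ Submodule.span F {w} := fun h => hr1 (by simpa using h)
  obtain ⟨y, hy, hy'⟩ := D.exists_dual hr2
  have hwy := hy' w (Submodule.mem_span_singleton_self w)
  have hw0 : w ≠ 0 := fun e => hw (by simp [e])
  have hwy1 : w ∉ Submodule.span F {y} := fun h => by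
    obtain ⟨c, rfl⟩ := Submodule.mem_span_singleton.1 h
    have hry : g y r = -1 := by rw [Symp.swap D.hgA r y, hy]
    have h2 := hr (c • y) (by simp)
    rw [map_smul, LinearMap.smul_apply, hry, smul_eq_mul, mul_neg, mul_one, neg_eq_zero] at h2
    exact hw0 (by rw [h2, zero_smul])
  have hyw1 : y ∉ Submodule.span F {w} := fun h => by
    obtain ⟨c, rfl⟩ := Submodule.mem_span_singleton.1 h
    rw [map_smul, Symp.swap D.hgA w r, hr w (by simp)] at hy
    simp at hy
  refine ⟨eich D.hQ (D.pure a w) (a := T (-b) r) (by rw [D.polarT, hr w (by simp), mul_zero]),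
    eich_mem D.hQ D.five _ _, fun ⟨A, hA⟩ => ?_⟩
  obtain ⟨R, hR⟩ := hA y
  have h1 := hR x
  rw [D.eich_eq, D.sh_pure, hy, hwy, zero_smul, add_zero, one_smul, R1_apply, map_neg, LinearMap.neg_apply,
    Symp.swap D.hfA x b, neg_neg, hb, one_smul] at h1
  obtain ⟨z, hz, hz'⟩ := D.exists_dual hwy1
  obtain ⟨z', hz2, hz2'⟩ := D.exists_dual hyw1
  have e1 := congrArg (D.C z) h1
  have e2 := congrArg (D.C z') h1
  have hzy : g z y = 0 := by rw [Symp.swap D.hgA, hz' y (Submodule.mem_span_singleton_self y), neg_zero]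
  have hzw : g z' w = 0 := by rw [Symp.swap D.hgA, hz2' w (Submodule.mem_span_singleton_self w), neg_zero]
  rw [map_add, D.C_T, D.C_T, D.C_T, hzy, Symp.swap D.hgA w z, hz, zero_smul, zero_add, neg_one_smul] at e1
  rw [map_add, D.C_T, D.C_T, D.C_T, hzw, Symp.swap D.hgA y z', hz2, zero_smul, add_zero, neg_one_smul] at e2
  have hAa : g z R ≠ 0 := fun e0 => ha (by rwa [e0, zero_smul, neg_eq_zero] at e1)
  refine hx (Submodule.mem_span_singleton.2 ⟨g z' R * (g z R)⁻¹, ?_⟩)
  rw [← neg_inj, ← smul_neg, e1, e2, smul_smul, mul_assoc, inv_mul_cancel₀ hAa, mul_one]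

end Data

end CfsgLib.Geo.SympTensor
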