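/-
The stabiliser of a tensor decomposition into two symplectic spaces is maximal in `Ω`.
-/
import Cfsg.Agent.Lib.Geo.SympTensor.Base
import Cfsg.Agent.Lib.Geo.OrthTensorThree

set_option autoImplicit false
set_option linter.unusedSectionVars false

namespace CfsgLib.Geo.SympTensor

open CfsgLib.Classical CfsgLib.Classical.Quad CfsgLib.Geo.OrthMax Module
open QuadraticMap (polar polarBilin)
open LinearMap (BilinForm)
open scoped Kronecker
open Matrix

variable {F : Type*} [Field F] [Fintype F] {ι : Type} [Fintype ι] [DecidableEq ι] {n₁ n₂ : ℕ}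

theorem maximal {Q : QuadraticForm F (ι → F)} (hQ : (polarBilin Q).Nondegenerate) (hn : 12 ≤ Fintype.card ι)
    (h12 : n₁ < n₂) (hex : ¬ (Fintype.card F = 2 ∧ n₁ = 2))
    (e : ι ≃ Fin n₁ × Fin n₂) (P : Matrix.GeneralLinearGroup ι F)
    {f₁ : (Fin n₁ → F) → (Fin n₁ → F) → F} {f₂ : (Fin n₂ → F) → (Fin n₂ → F) → F}
    (hf₁ : Cfsg.Geo.IsSymplecticForm f₁) (hf₂ : Cfsg.Geo.IsSymplecticForm f₂)
    (hT : Cfsg.Geo.IsTensorFormStructure id (polar ⇑Q) f₁ f₂ e P)
    (hpure : ∀ x y, Q (pureTensor e P x y) = 0) :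
    Cfsg.Geo.IsMaximalIn (Cfsg.Geo.omegaGL (⇑Q))
      (Cfsg.Geo.tensorProductSubgroup n₁ n₂ e P ⊓ Cfsg.Geo.omegaGL (⇑Q)) := by
  classical
  obtain ⟨c, hc, hT⟩ := hT
  have hcard : Fintype.card ι = n₁ * n₂ := by simpa using Fintype.card_congr e
  let f : BilinForm F (Fin n₁ → F) := c • LinearMap.mk₂ F f₁ hf₁.bilinear.add_left hf₁.bilinear.smul_left
    hf₁.bilinear.add_right hf₁.bilinear.smul_right
  let g : BilinForm F (Fin n₂ → F) := LinearMap.mk₂ F f₂ hf₂.bilinear.add_left hf₂.bilinear.smul_left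
    hf₂.bilinear.add_right hf₂.bilinear.smul_right
  let T : (Fin n₁ → F) →ₗ[F] (Fin n₂ → F) →ₗ[F] (ι → F) := LinearMap.mk₂ F (pureTensor e P)
    (fun x x' y => by simp only [pureTensor, ← Matrix.mulVec_add]; congr 1; funext i; simp [add_mul])
    (fun s x y => by rw [pureTensor_smul_left, pureTensor_smul_right])
    (fun x y y' => pureTensor_add_right e P x y y')
    (fun s x y => pureTensor_smul_right e P s x y)
  have hfnd : f.Nondegenerate := by
    constructor <;> intro x hx <;> by_contra h0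
    · obtain ⟨y, hy⟩ := (hf₁.nondegenerate x h0).2
      exact hy ((mul_eq_zero.1 (hx y)).resolve_left hc)
    · obtain ⟨y, hy⟩ := (hf₁.nondegenerate x h0).1
      exact hy ((mul_eq_zero.1 (hx y)).resolve_left hc)
  have hgnd : g.Nondegenerate := by
    constructor <;> intro x hx <;> by_contra h0
    · obtain ⟨y, hy⟩ := (hf₂.nondegenerate x h0).2
      exact hy (hx y)
    · obtain ⟨y, hy⟩ := (hf₂.nondegenerate x h0).1
      exact hy (hx y)
  have hfA : f.IsAlt := fun x => by
    show c * f₁ x x = 0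
    rw [hf₁.alternating, mul_zero]
  have hgA : g.IsAlt := hf₂.alternating
  obtain ⟨m₁, -, -, hm₁⟩ := Symp.exists_sympSys hfA hfnd
  obtain ⟨m₂, -, -, hm₂⟩ := Symp.exists_sympSys hgA hgnd
  rw [Module.finrank_fin_fun] at hm₁ hm₂
  have hn₁ : 2 ≤ n₁ := by
    rcases Nat.eq_zero_or_pos n₁ with h | h
    · subst h; simp at hcard; omega
    · omega
  have hn₂ : 6 ≤ n₂ := by
    by_contra h
    have : n₁ * n₂ ≤ 2 * 4 := Nat.mul_le_mul (by omega) (by omega)
    omega
  have hspan : Submodule.span F (Set.range fun p : (Fin n₁ → F) × (Fin n₂ → F) => T p.1 p.2) = ⊤ := by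
    refine eq_top_iff.2 fun v _ => ?_
    set u := (((P⁻¹ : Matrix.GeneralLinearGroup ι F) : Matrix ι ι F) *ᵥ v)
    have ev : v = ∑ q : Fin n₁ × Fin n₂, u (e.symm q) • T (Pi.single q.1 1) (Pi.single q.2 1) := by
      rw [← Matrix.one_mulVec v, ← Units.val_one, ← mul_inv_cancel P, Units.val_mul, ← Matrix.mulVec_mulVec]
      simp only [T, LinearMap.mk₂_apply, pureTensor, ← Matrix.mulVec_smul, ← Matrix.mulVec_sum]
      congr 1
      funext i
      rw [Finset.sum_apply, Finset.sum_eq_single (e i)]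
      · simp [u]
      · intro q _ hq
        rcases not_and_or.1 (fun h : q.1 = (e i).1 ∧ q.2 = (e i).2 => hq (Prod.ext h.1 h.2)) with h | h <;>
          simp [Ne.symm h]
      · simp
    rw [ev]
    exact Submodule.sum_mem _ fun q _ => Submodule.smul_mem _ _ (Submodule.subset_span ⟨(_, _), rfl⟩)
  have D : Data Q f g T :=
    { hQ := hQ
      hf := hfnd
      hfA := hfA
      hg := hgnd
      hgA := hgA
      polarT := fun a b y z => by
        show polar ⇑Q (pureTensor e P a y) (pureTensor e P b z) = c * f₁ a b * f₂ y z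
        rw [polar_pureTensor e P hf₁.bilinear hf₂.bilinear hT, mul_assoc]
      pure := hpure
      span := hspan
      two := by rw [Module.finrank_fin_fun]; exact hn₁
      lt := by rw [Module.finrank_fin_fun, Module.finrank_fin_fun]; omega
      six := by rw [Module.finrank_fin_fun]; exact hn₂
      five := by rw [Module.finrank_pi]; omega }
  let e' := oEquiv Q
  have hn5 : 5 ≤ Module.finrank F (ι → F) := by rw [Module.finrank_pi]; omega
  have hΩ : ∀ g : Cfsg.isometryGroup F (⇑Q),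
      (g : Matrix.GeneralLinearGroup ι F) ∈ Cfsg.Geo.omegaGL (⇑Q) ↔ e' g ∈ eichGroup hQ := by
    intro g
    have hmap : (commutator ↥(Cfsg.isometryGroup F (⇑Q))).map e'.toMonoidHom = commutator (OQ Q) := by
      rw [commutator_def, commutator_def, Subgroup.map_commutator,
        Subgroup.map_top_of_surjective _ e'.surjective]
    rw [eichGroup_eq_commutator hQ hn5, ← hmap, Subgroup.mem_map_equiv, MulEquiv.symm_apply_apply]
    exact ⟨fun ⟨g', hg', hgg⟩ => by rw [← Subtype.ext hgg]; exact hg', fun h => ⟨g, h, rfl⟩⟩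
  have hiso : ∀ x, x ∈ Cfsg.Geo.omegaGL (⇑Q) → x ∈ Cfsg.isometryGroup F (⇑Q) := by
    rintro _ ⟨g, -, rfl⟩
    exact g.2
  have hact : ∀ (k : OQ Q) v, (((e'.symm k : Cfsg.isometryGroup F (⇑Q)) :
      Matrix.GeneralLinearGroup ι F) : Matrix ι ι F) *ᵥ v = (k : (ι → F) ≃ₗ[F] (ι → F)) v := fun k v => by
    rw [← oEquiv_apply, MulEquiv.apply_symm_apply]
  -- Kronecker products
  have htoT : ∀ (k : OQ Q) (A : (Fin n₁ → F) →ₗ[F] (Fin n₁ → F)) (B : (Fin n₂ → F) →ₗ[F] (Fin n₂ → F)),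
      (∀ x y, (k : (ι → F) ≃ₗ[F] (ι → F)) (T x y) = T (A x) (B y)) →
      ((e'.symm k : Cfsg.isometryGroup F (⇑Q)) : Matrix.GeneralLinearGroup ι F) ∈
        Cfsg.Geo.tensorProductSubgroup n₁ n₂ e P := by
    intro k A B hk
    have hu₁ : IsUnit A.toMatrix' := by
      refine Matrix.mulVec_injective_iff_isUnit.1 fun a b hab => ?_
      rw [LinearMap.toMatrix'_mulVec, LinearMap.toMatrix'_mulVec] at hab
      let y₀ : Fin n₂ → F := Pi.single ⟨0, by omega⟩ 1
      have hy : y₀ ≠ 0 := fun h => one_ne_zero (α := F) (by simpa [y₀] using congrFun h ⟨0, by omega⟩)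
      exact D.T_injective hy ((k : (ι → F) ≃ₗ[F] (ι → F)).injective (by rw [hk, hk, hab]))
    have hu₂ : IsUnit B.toMatrix' := by
      refine Matrix.mulVec_injective_iff_isUnit.1 fun a b hab => ?_
      rw [LinearMap.toMatrix'_mulVec, LinearMap.toMatrix'_mulVec] at hab
      let x₀ : Fin n₁ → F := Pi.single ⟨0, by omega⟩ 1
      have hx : x₀ ≠ 0 := fun h => one_ne_zero (α := F) (by simpa [x₀] using congrFun h ⟨0, by omega⟩)
      by_contra hne
      refine hx (D.T_eq_zero (sub_ne_zero.2 hne) ((k : (ι → F) ≃ₗ[F] (ι → F)).injective ?_))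
      rw [hk, map_sub, hab, sub_self, map_zero, map_zero]
    obtain ⟨a, ha⟩ := hu₁
    obtain ⟨b, hb⟩ := hu₂
    let K₀ : Matrix.GeneralLinearGroup (Fin n₁ × Fin n₂) F :=
      Matrix.GeneralLinearGroup.mkOfDetNeZero
        ((a : Matrix (Fin n₁) (Fin n₁) F) ⊗ₖ (b : Matrix (Fin n₂) (Fin n₂) F)) (by
          rw [Matrix.det_kronecker]
          exact mul_ne_zero (pow_ne_zero _ (Matrix.GeneralLinearGroup.det_ne_zero a))
            (pow_ne_zero _ (Matrix.GeneralLinearGroup.det_ne_zero b)))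
    have hK₀ : K₀ ∈ Cfsg.Geo.kroneckerSubgroup n₁ n₂ F := ⟨a, b, rfl⟩
    have hmem : MulAut.conj P (Cfsg.Geo.glReindex e.symm K₀) ∈ Cfsg.Geo.tensorProductSubgroup n₁ n₂ e P :=
      ⟨_, ⟨K₀, hK₀, rfl⟩, rfl⟩
    have hKpure : ∀ x y, (MulAut.conj P (Cfsg.Geo.glReindex e.symm K₀) : Matrix.GeneralLinearGroup ι F).1 *ᵥ
        pureTensor e P x y = pureTensor e P ((a : Matrix (Fin n₁) (Fin n₁) F) *ᵥ x)
          ((b : Matrix (Fin n₂) (Fin n₂) F) *ᵥ y) := by
      intro x y
      show ((P * Cfsg.Geo.glReindex e.symm K₀ * P⁻¹ : Matrix.GeneralLinearGroup ι F) : Matrix ι ι F) *ᵥ _ = _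
      rw [pureTensor, pureTensor, Units.val_mul, Matrix.mulVec_mulVec, Matrix.mul_assoc, Units.inv_mul,
        Matrix.mul_one, Units.val_mul, ← Matrix.mulVec_mulVec]
      congr 1
      show Matrix.reindex e.symm e.symm
        ((a : Matrix (Fin n₁) (Fin n₁) F) ⊗ₖ (b : Matrix (Fin n₂) (Fin n₂) F)) *ᵥ _ = _
      funext i
      simp only [Matrix.mulVec, dotProduct, Matrix.reindex_apply, Matrix.submatrix_apply, Equiv.symm_symm,
        Function.comp_apply]
      rw [e.sum_comp (fun q => ((a : Matrix (Fin n₁) (Fin n₁) F) ⊗ₖ (b : Matrix (Fin n₂) (Fin n₂) F))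
        (e i) q * (x q.1 * y q.2)), Fintype.sum_prod_type, Finset.sum_mul_sum]
      refine Finset.sum_congr rfl fun p _ => Finset.sum_congr rfl fun q _ => ?_
      rw [Matrix.kroneckerMap_apply]
      ring
    convert hmem
    refine Units.ext (Matrix.toLin'.injective (LinearMap.ext_on hspan ?_))
    rintro _ ⟨⟨x, y⟩, rfl⟩
    rw [Matrix.toLin'_apply, Matrix.toLin'_apply, hact, hk]
    show pureTensor e P (A x) (B y) = _ *ᵥ pureTensor e P x y
    rw [hKpure, ha, hb, LinearMap.toMatrix'_mulVec, LinearMap.toMatrix'_mulVec]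
  have hkrT : ∀ k : OQ Q, Kr T k → ((e'.symm k : Cfsg.isometryGroup F (⇑Q)) : Matrix.GeneralLinearGroup ι F) ∈
      Cfsg.Geo.tensorProductSubgroup n₁ n₂ e P := by
    rintro k ⟨A, hA⟩
    choose R hR using hA
    have : Nontrivial (Fin n₁ → F) := Module.nontrivial_of_finrank_pos (R := F) (by rw [Module.finrank_fin_fun]; omega)
    obtain ⟨a₀, ha₀⟩ : ∃ a₀, A a₀ ≠ 0 := by
      by_contra! h
      obtain ⟨a₀, ha₀⟩ := exists_ne (0 : Fin n₁ → F)
      refine ha₀ (D.T_eq_zero (r := Pi.single (⟨0, by omega⟩ : Fin n₂) 1) ?_ ?_)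
      · exact fun h' => one_ne_zero (α := F) (by simpa using congrFun h' ⟨0, by omega⟩)
      · exact (k : (ι → F) ≃ₗ[F] (ι → F)).injective (by rw [hR, h, map_zero, map_zero, LinearMap.zero_apply])
    have key : ∀ p q, T (A a₀) p = T (A a₀) q → p = q := fun p q h => by
      by_contra hne
      exact ha₀ (D.T_eq_zero (sub_ne_zero.2 hne) (by rw [map_sub, h, sub_self]))
    let B : (Fin n₂ → F) →ₗ[F] (Fin n₂ → F) :=
      { toFun := R
        map_add' := fun p q => key _ _ (by rw [← hR, map_add, map_add, hR, hR, map_add])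
        map_smul' := fun s p => key _ _ (by rw [← hR, map_smul, map_smul, hR, map_smul, RingHom.id_apply]) }
    exact htoT k A B fun x y => hR y x
  refine ⟨lt_of_le_of_ne inf_le_right fun he => ?_, fun M hHM hMS => ?_⟩
  · obtain ⟨k, hk, hnk⟩ := D.exists_not_kr
    set gk := e'.symm k
    have hg : (gk : Matrix.GeneralLinearGroup ι F) ∈ Cfsg.Geo.omegaGL (⇑Q) :=
      (hΩ gk).2 (by rw [MulEquiv.apply_symm_apply]; exact hk)
    rw [← he] at hg
    obtain ⟨A, B, hAB⟩ := exists_of_mem_tensor e P hg.1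
    refine hnk ⟨Matrix.toLin' (A : Matrix (Fin n₁) (Fin n₁) F),
      fun y => ⟨(B : Matrix (Fin n₂) (Fin n₂) F) *ᵥ y, fun x => ?_⟩⟩
    rw [← hact]
    exact hAB x y
  set K := (M.subgroupOf (Cfsg.isometryGroup F (⇑Q))).map e'.toMonoidHom
  have hmK : ∀ g : Cfsg.isometryGroup F (⇑Q), e' g ∈ K ↔ (g : Matrix.GeneralLinearGroup ι F) ∈ M :=
    fun g => by
      rw [Subgroup.mem_map_equiv, MulEquiv.symm_apply_apply, Subgroup.mem_subgroupOf]
  have hbase : ∀ (k : OQ Q) (A : (Fin n₁ → F) →ₗ[F] (Fin n₁ → F)) (B : (Fin n₂ → F) →ₗ[F] (Fin n₂ → F)),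
      k ∈ eichGroup hQ → (∀ x y, (k : (ι → F) ≃ₗ[F] (ι → F)) (T x y) = T (A x) (B y)) → k ∈ K := by
    intro k A B hk hAB
    have h := (hmK (e'.symm k)).2 (hHM ⟨htoT k A B hAB, (hΩ _).2 (by rw [MulEquiv.apply_symm_apply]; exact hk)⟩)
    rwa [MulEquiv.apply_symm_apply] at h
  have O : Over D K :=
    { sh_one := fun w r h => by
        obtain ⟨k, hk, ek⟩ := D.mem_sh h LinearMap.id
        refine ⟨k, hbase k LinearMap.id (LinearMap.id + (g r).smulRight w + (g w).smulRight r) hk fun x y => ?_, ek⟩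
        rw [ek, D.sh_pure, D.adj_id]
        simp
      trz_mem := fun z s => by
        obtain ⟨k, hk, ek⟩ := D.mem_trz z s
        refine ⟨k, hbase k LinearMap.id (LinearMap.id + s • (g z).smulRight z) hk fun x y => ?_, ek⟩
        rw [ek, D.trz_pure]
        simp [smul_smul]
      left := fun a s => by
        obtain ⟨k, hk, ek⟩ := D.mem_left a s
        refine ⟨k, hbase k (LinearMap.id + s • (f a).smulRight a) LinearMap.id hk fun x y => ?_, ek⟩
        rw [ek]
        simp [smul_smul] }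
  by_cases hgood : Good D K
  · refine Or.inr (le_antisymm hMS fun x hx => ?_)
    have hle := O.eichGroup_le (fun hF => by
      rw [Module.finrank_fin_fun]
      have h2 : Fintype.card F = 2 := by
        refine le_antisymm ?_ Fintype.one_lt_card
        calc Fintype.card F ≤ ({0, 1} : Finset F).card := by
              rw [← Finset.card_univ]
              exact Finset.card_le_card fun a _ => by rcases hF a with h | h <;> simp [h]
          _ ≤ 2 := Finset.card_le_two
      have : n₁ ≠ 2 := fun h => hex ⟨h2, h⟩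
      omega) hgood
    exact (hmK ⟨x, hiso x hx⟩).1 (hle ((hΩ ⟨x, _⟩).1 hx))
  · refine Or.inl (le_antisymm (le_inf (fun x hx => ?_) hMS) hHM)
    have h := hkrT _ (O.kr_of_not_good hgood ((hmK ⟨x, hiso x (hMS hx)⟩).2 hx))
    rwa [MulEquiv.symm_apply_apply] at h

end CfsgLib.Geo.SympTensor
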